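import Groth.Agent.SGA7.K564.Tate.Defs
import Mathlib.RingTheory.AdicCompletion.Basic
import Mathlib.RingTheory.LocalRing.ResidueField.Basic
import Mathlib.RingTheory.RootsOfUnity.PrimitiveRoots
import Mathlib.RingTheory.Bialgebra.TensorProduct
import Mathlib.RingTheory.HopfAlgebra.TensorProduct

/-!
# Interface of the project `Tate's theorem on p-divisible groups`: the statements of the nodes
-/

set_option autoImplicit false
universe u v

open TensorProduct CartDual

namespace K564.Tate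

/-- (I-1) multiplicativity of trace ideals in exact sequences (no flatness assumed). -/
def NMul : Prop := ∀ (R : Type u) [CommRing R] [IsDomain R] [IsDiscreteValuationRing R] [CharZero R]
  (A A' A'' : Type u) [CommRing A] [HopfAlgebra R A] [Coalgebra.IsCocomm R A] [Module.Finite R A] [Module.Free R A]
  [CommRing A'] [HopfAlgebra R A'] [Coalgebra.IsCocomm R A'] [Module.Finite R A'] [Module.Free R A']
  [CommRing A''] [HopfAlgebra R A''] [Coalgebra.IsCocomm R A''] [Module.Finite R A''] [Module.Free R A'']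
  (f : A'' →ₐc[R] A) (g : A →ₐc[R] A'), Function.Injective f →
  (∀ (r : R) (b : A), r ≠ 0 → (∃ a, f a = r • b) → ∃ a, f a = b) → Function.Surjective g →
  Module.finrank R A = Module.finrank R A' * Module.finrank R A'' →
  (∀ x, g (f x) = algebraMap R A' (Coalgebra.counit x)) → trI R A = trI R A' * trI R A''

/-- (I-2) duality. -/
def NDual : Prop := ∀ (R : Type u) [CommRing R] [IsDomain R] [IsDiscreteValuationRing R] [CharZero R]
  (B : Type u) [CommRing B] [HopfAlgebra R B] [Coalgebra.IsCocomm R B] [Module.Finite R B] [Module.Free R B],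
  trI R B * trI R (D R B) = Ideal.span {((Module.finrank R B : ℕ) : R)}

/-- (I-3) generically equal orders: monotonicity. -/
def NLe : Prop := ∀ (R : Type u) [CommRing R] [IsDomain R] [IsDiscreteValuationRing R] [CharZero R]
  (B' B : Type u) [CommRing B'] [HopfAlgebra R B'] [Coalgebra.IsCocomm R B'] [Module.Finite R B'] [Module.Free R B']
  [CommRing B] [HopfAlgebra R B] [Coalgebra.IsCocomm R B] [Module.Finite R B] [Module.Free R B]
  (f : B' →ₐ[R] B), Function.Injective f → (∀ b : B, ∃ r : R, r ≠ 0 ∧ ∃ a, f a = r • b) → trI R B' ≤ trI R B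

/-- (I-4) generically equal orders with the same trace ideal are equal. -/
def NEq : Prop := ∀ (R : Type u) [CommRing R] [IsDomain R] [IsDiscreteValuationRing R] [CharZero R]
  (B' B : Type u) [CommRing B'] [HopfAlgebra R B'] [Coalgebra.IsCocomm R B'] [Module.Finite R B'] [Module.Free R B']
  [CommRing B] [HopfAlgebra R B] [Coalgebra.IsCocomm R B] [Module.Finite R B] [Module.Free R B]
  (f : B' →ₐ[R] B), Function.Injective f → (∀ b : B, ∃ r : R, r ≠ 0 ∧ ∃ a, f a = r • b) → trI R B ≤ trI R B' →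
  Function.Surjective f

/-- (I-5) Lenstra's inequality for diagonal relations of the cotangent space at the unit. -/
def NLen : Prop := ∀ (R : Type u) [CommRing R] [IsDomain R] [IsDiscreteValuationRing R] [CharZero R]
  (B : Type u) [CommRing B] [HopfAlgebra R B] [Coalgebra.IsCocomm R B] [Module.Finite R B] [Module.Free R B]
  (s : ℕ) (x : Fin s → B) (r : Fin s → R), (∀ i, Coalgebra.counit (R := R) (x i) = 0) →
  (RingHom.ker (Bialgebra.counitAlgHom R B) ≤ Ideal.span (Set.range x) ⊔ RingHom.ker (Bialgebra.counitAlgHom R B) ^ 2) →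
  (∀ i, r i • x i ∈ RingHom.ker (Bialgebra.counitAlgHom R B) ^ 2) → ∏ i, r i ∈ trI R B

/-- (I-6) trace ideals of the layers. -/
def NPow : Prop := ∀ (R : Type u) [CommRing R] [IsDomain R] [IsDiscreteValuationRing R] [CharZero R]
  (p h : ℕ) (Φ : Sys R p h) (n : ℕ), trI R (Φ.B n) = trI R (Φ.B 1) ^ n

/-- (II) the rank of the Lie algebra is at least the "dimension". -/
def NLie : Prop := ∀ (R : Type u) [CommRing R] [IsDomain R] [IsDiscreteValuationRing R] [CharZero R]
  [IsAdicComplete (IsLocalRing.maximalIdeal R) R] (p h : ℕ) [Fact p.Prime],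
  ((p : R) ∈ IsLocalRing.maximalIdeal R) → ∀ (Φ : Sys R p h),
  ∃ (r : ℕ) (t : Fin r → ∀ n, Φ.B n →ₗ[R] R), (∀ j, Φ.IsLie (t j)) ∧ (p : R) ^ r ∈ trI R (Φ.B 1) ∧
    ∀ c : Fin r → R, (∀ b : Φ.B 1, ∑ j, c j * t j 1 b ∈ IsLocalRing.maximalIdeal R) →
      ∀ j, c j ∈ IsLocalRing.maximalIdeal R

/-- (III) an element of the Lie algebra which vanishes at all characters is zero. -/
def NInj : Prop := ∀ (R K Kb : Type u) [CommRing R] [IsDomain R] [IsDiscreteValuationRing R] [CharZero R]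
  [IsAdicComplete (IsLocalRing.maximalIdeal R) R] [Infinite (IsLocalRing.ResidueField R)]
  [Field K] [Algebra R K] [IsFractionRing R K] [Field Kb] [Algebra K Kb] [Algebra R Kb] [IsScalarTower R K Kb]
  [IsAlgClosed Kb] [Algebra.IsAlgebraic K Kb] (p h : ℕ) [Fact p.Prime],
  ((p : R) ∈ IsLocalRing.maximalIdeal R) → ∀ (Φ : Sys R p h) (t : ∀ n, Φ.B n →ₗ[R] R), Φ.IsLie t →
  (∀ (y : Φ.Y (integralClosure R Kb)) (n : ℕ), ((p : integralClosure R Kb) ^ n ∣ Φ.ev t n (y.1 n))) →
  ∀ b : Φ.B 1, t 1 b ∈ IsLocalRing.maximalIdeal R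

/-- (BAS) compatible dual bases of the Tate modules of the system and of its dual. -/
def NBas : Prop := ∀ (R K Kb : Type u) [CommRing R] [IsDomain R] [IsDiscreteValuationRing R] [CharZero R]
  [Field K] [Algebra R K] [IsFractionRing R K] [Field Kb] [Algebra K Kb] [Algebra R Kb] [IsScalarTower R K Kb]
  [IsAlgClosed Kb] [Algebra.IsAlgebraic K Kb] (p h : ℕ) [Fact p.Prime] (Φ : Sys R p h),
  ∃ (z : ℕ → integralClosure R Kb) (e : Fin h → Φ.T (integralClosure R Kb)) (e' : Fin h → Φ.Y (integralClosure R Kb)),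
    (∀ n, IsPrimitiveRoot (z n) (p ^ n)) ∧ (∀ n, z (n + 1) ^ p = z n) ∧
    (∀ n i j, pr (Φ.B n) ((e i).1 n).ofConv.toLinearMap ((e' j).1 n).ofConv.toLinearMap = if i = j then z n else 1) ∧
    (∀ n (x : WithConv (Φ.B n →ₐ[R] integralClosure R Kb)), x ^ (p ^ n) = 1 ∧
      ∃ a : Fin h → ℕ, x = ∏ i, (e i).1 n ^ a i) ∧
    (∀ n (y : WithConv (D R (Φ.B n) →ₐ[R] integralClosure R Kb)), y ^ (p ^ n) = 1 ∧
      ∃ a : Fin h → ℕ, y = ∏ j, (e' j).1 n ^ a j)

/-- (IV) the "dimension" depends only on the generic fibre. -/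
def NDim : Prop := ∀ (R : Type u) [CommRing R] [IsDomain R] [IsDiscreteValuationRing R] [CharZero R]
  [IsAdicComplete (IsLocalRing.maximalIdeal R) R] [IsAlgClosed (IsLocalRing.ResidueField R)] (p h : ℕ) [Fact p.Prime],
  ((p : R) ∈ IsLocalRing.maximalIdeal R) → ∀ (Φ Φ' : Sys R p h) (u : ∀ n, Φ'.B n →ₐc[R] Φ.B n),
  (∀ n, Function.Injective (u n)) → (∀ n (b : Φ.B n), ∃ r : R, r ≠ 0 ∧ ∃ a, u n a = r • b) →
  (∀ n (a : Φ'.B (n + 1)), u n (Φ'.res n a) = Φ.res n (u (n + 1) a)) →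
  (∀ n (a : Φ'.B n), u (n + 1) (Φ'.inf n a) = Φ.inf n (u n a)) → trI R (Φ.B 1) ≤ trI R (Φ'.B 1)

/-- (V) Tate's theorem over a complete discrete valuation ring with algebraically closed residue field: a
homomorphism of the generic fibres (given by maps on `K ⊗ B' n`) is defined over `R`. -/
def NFull : Prop := ∀ (R K : Type u) [CommRing R] [IsDomain R] [IsDiscreteValuationRing R] [CharZero R]
  [IsAdicComplete (IsLocalRing.maximalIdeal R) R] [IsAlgClosed (IsLocalRing.ResidueField R)]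
  [Field K] [Algebra R K] [IsFractionRing R K] (p h h' : ℕ) [Fact p.Prime],
  ((p : R) ∈ IsLocalRing.maximalIdeal R) → ∀ (Φ : Sys R p h) (Φ' : Sys R p h')
  (φ : ∀ n, K ⊗[R] Φ'.B n →ₐc[K] K ⊗[R] Φ.B n),
  (∀ n (a : Φ'.B (n + 1)), φ n (1 ⊗ₜ Φ'.res n a) =
    (Φ.res n : Φ.B (n + 1) →ₐ[R] Φ.B n).toLinearMap.lTensor K (φ (n + 1) (1 ⊗ₜ a))) →
  (∀ n (a : Φ'.B n), φ (n + 1) (1 ⊗ₜ Φ'.inf n a) =
    (Φ.inf n : Φ.B n →ₐ[R] Φ.B (n + 1)).toLinearMap.lTensor K (φ n (1 ⊗ₜ a))) →
  ∀ n (a : Φ'.B n), ∃ b : Φ.B n, φ n (1 ⊗ₜ a) = 1 ⊗ₜ b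

end K564.Tate
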