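import Groth.Agent.SGA7.K564.Tate.Pairing
import Mathlib.Algebra.Module.PID
import Mathlib.LinearAlgebra.FreeModule.PID

/-!
# The dual of a Barsotti-Tate system
-/

set_option autoImplicit false
set_option linter.unusedSectionVars false
universe u v

open TensorProduct CartDual

namespace K564.Tate

section Lin

variable {R : Type u} [CommRing R]

/-- the transpose of a surjective map is injective. -/
theorem tr_injective {A A' : Type u} [AddCommGroup A] [Module R A] [AddCommGroup A'] [Module R A']
    (g : A →ₗ[R] A') (hg : Function.Surjective g) : Function.Injective (tr g) := by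
  intro x y hxy
  apply WithConv.ofConv_injective
  apply LinearMap.ext
  intro a
  obtain ⟨b, rfl⟩ := hg a
  exact congrArg (fun z : D R A => z.ofConv b) hxy

/-- the transpose of a surjective map is saturated. -/
theorem tr_sat [IsDomain R] {A A' : Type u} [AddCommGroup A] [Module R A] [AddCommGroup A'] [Module R A']
    (g : A →ₗ[R] A') (hg : Function.Surjective g) (r : R) (y : D R A) (hr : r ≠ 0)
    (h : ∃ x, tr g x = r • y) : ∃ x, tr g x = y := by
  obtain ⟨x, hx⟩ := h
  have hk : ∀ a, g a = 0 → y.ofConv a = 0 := by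
    intro a ha
    have h1 : x.ofConv (g a) = r * y.ofConv a := congrArg (fun z : D R A => z.ofConv a) hx
    rw [ha, map_zero] at h1
    rcases mul_eq_zero.1 h1.symm with h2 | h2
    · exact absurd h2 hr
    · exact h2
  have hle : LinearMap.ker g ≤ LinearMap.ker y.ofConv := fun a ha => hk a ha
  let e := LinearMap.quotKerEquivOfSurjective g hg
  refine ⟨WithConv.toConv (((LinearMap.ker g).liftQ y.ofConv hle) ∘ₗ e.symm.toLinearMap), ?_⟩
  apply WithConv.ofConv_injective
  apply LinearMap.ext
  intro a
  change ((LinearMap.ker g).liftQ y.ofConv hle) (e.symm (g a)) = y.ofConv a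
  have : e.symm (g a) = (LinearMap.ker g).mkQ a := by
    rw [LinearEquiv.symm_apply_eq]
    rfl
  rw [this]
  rfl

/-- the transpose of an injective saturated map of finite free modules over a PID is surjective. -/
theorem tr_surjective [IsDomain R] [IsPrincipalIdealRing R] {A A'' : Type u} [AddCommGroup A] [Module R A]
    [Module.Finite R A] [AddCommGroup A''] [Module R A'']
    (f : A'' →ₗ[R] A) (hf : Function.Injective f)
    (hs : ∀ (r : R) (b : A), r ≠ 0 → (∃ a, f a = r • b) → ∃ a, f a = b) : Function.Surjective (tr f) := by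
  have htf : Module.IsTorsionFree R (A ⧸ LinearMap.range f) := by
    refine Module.isTorsionFree_iff_smul_eq_zero.2 ?_
    intro r b h
    obtain ⟨a, rfl⟩ := Submodule.Quotient.mk_surjective _ b
    by_cases hr : r = 0
    · exact Or.inl hr
    right
    rw [← Submodule.Quotient.mk_smul, Submodule.Quotient.mk_eq_zero] at h
    obtain ⟨c, hc⟩ := h
    obtain ⟨d, hd⟩ := hs r a hr ⟨c, hc⟩
    rw [Submodule.Quotient.mk_eq_zero]
    exact ⟨d, hd⟩
  have hfree : Module.Free R (A ⧸ LinearMap.range f) := Module.free_of_finite_type_torsion_free'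
  obtain ⟨s, hs'⟩ := Module.projective_lifting_property (LinearMap.range f).mkQ LinearMap.id
    (Submodule.mkQ_surjective _)
  have hsec : ∀ q, (LinearMap.range f).mkQ (s q) = q := fun q => LinearMap.congr_fun hs' q
  let e := LinearEquiv.ofInjective f hf
  intro x
  have hmem : ∀ a : A, a - s ((LinearMap.range f).mkQ a) ∈ LinearMap.range f := by
    intro a
    rw [← Submodule.Quotient.mk_eq_zero]
    change (LinearMap.range f).mkQ (a - s ((LinearMap.range f).mkQ a)) = 0
    rw [map_sub, hsec, sub_self]
  let ρ : A →ₗ[R] LinearMap.range f :=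
    LinearMap.codRestrict (LinearMap.range f) (LinearMap.id - s ∘ₗ (LinearMap.range f).mkQ) hmem
  have hρ : ∀ a, ρ (f a) = e a := by
    intro a
    apply Subtype.ext
    change f a - s ((LinearMap.range f).mkQ (f a)) = f a
    have : (LinearMap.range f).mkQ (f a) = 0 := by
      rw [Submodule.mkQ_apply, Submodule.Quotient.mk_eq_zero]
      exact ⟨a, rfl⟩
    rw [this, map_zero, sub_zero]
  refine ⟨WithConv.toConv (x.ofConv ∘ₗ e.symm.toLinearMap ∘ₗ ρ), ?_⟩
  apply WithConv.ofConv_injective
  apply LinearMap.ext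
  intro a
  change x.ofConv (e.symm (ρ (f a))) = x.ofConv a
  rw [hρ, LinearEquiv.symm_apply_apply]

end Lin

section Hopf

variable {R : Type u} [CommRing R] {B : Type u} [CommRing B] [HopfAlgebra R B] [Coalgebra.IsCocomm R B]
  [Module.Finite R B] [Module.Free R B]

theorem transpose_id : transpose R (BialgHom.id R B) = BialgHom.id R (D R B) := rfl

theorem transpose_comp {B' B'' : Type u} [CommRing B'] [HopfAlgebra R B'] [Module.Finite R B'] [Module.Free R B']
    [CommRing B''] [HopfAlgebra R B''] [Module.Finite R B''] [Module.Free R B'']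
    (f : B' →ₐc[R] B) (g : B'' →ₐc[R] B') : transpose R (f.comp g) = (transpose R g).comp (transpose R f) := rfl

theorem ev₂_map (f g : B →ₗ[R] B) (x x' : D R B) (z : B ⊗[R] B) :
    LinearMap.mul' R R (TensorProduct.map (transposeLin R f x).ofConv (transposeLin R g x').ofConv z) =
      ev₂ R B (x ⊗ₜ x') (TensorProduct.map f g z) := by
  induction z using TensorProduct.induction_on with
  | zero => simp
  | tmul a b => simp [coe_apply]
  | add z z' hz hz' => simp only [map_add, hz, hz']

theorem mul'_map_transposeLin (f g : B →ₗ[R] B) (y : D R B ⊗[R] D R B) (b : B) :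
    (LinearMap.mul' R (D R B) (TensorProduct.map (transposeLin R f) (transposeLin R g) y)).ofConv b =
      ev₂ R B y (TensorProduct.map f g (Coalgebra.comul (R := R) b)) := by
  induction y using TensorProduct.induction_on with
  | zero => simp
  | tmul x x' =>
    rw [← ev₂_map, TensorProduct.map_tmul, LinearMap.mul'_apply, LinearMap.convMul_def]
    rfl
  | add y y' hy hy' => simp only [map_add, WithConv.ofConv_add, LinearMap.add_apply, hy, hy']

theorem transpose_conv (f g : WithConv (B →ₐc[R] B)) :
    WithConv.toConv (transpose R (f * g).ofConv) =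
      WithConv.toConv (transpose R f.ofConv) * WithConv.toConv (transpose R g.ofConv) := by
  apply WithConv.ofConv_injective
  apply BialgHom.ext
  intro x
  apply WithConv.ofConv_injective
  apply LinearMap.ext
  intro b
  have h1 : ((WithConv.toConv (transpose R f.ofConv) * WithConv.toConv (transpose R g.ofConv)).ofConv x).ofConv b =
      (LinearMap.mul' R (D R B) (TensorProduct.map (transposeLin R (f.ofConv : B →ₗ[R] B)) (transposeLin R (g.ofConv : B →ₗ[R] B))
        (Coalgebra.comul (R := R) x))).ofConv b := rfl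
  refine Eq.trans ?_ h1.symm
  rw [mul'_map_transposeLin, comul_def, ev₂_comul]
  rfl

theorem transpose_conv_one :
    WithConv.toConv (transpose R ((1 : WithConv (B →ₐc[R] B))).ofConv) = (1 : WithConv (D R B →ₐc[R] D R B)) := by
  apply WithConv.ofConv_injective
  apply BialgHom.ext
  intro x
  apply WithConv.ofConv_injective
  apply LinearMap.ext
  intro b
  have h1 : (((1 : WithConv (D R B →ₐc[R] D R B)).ofConv x).ofConv b) =
      (algebraMap R (D R B) (Coalgebra.counit (R := R) x)).ofConv b := rfl
  have h2 : ((transpose R ((1 : WithConv (B →ₐc[R] B))).ofConv) x).ofConv b =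
    x.ofConv (algebraMap R B (Coalgebra.counit (R := R) b)) := rfl
  refine h2.trans (Eq.trans ?_ h1.symm)
  rw [Algebra.algebraMap_eq_smul_one, map_smul, Algebra.algebraMap_eq_smul_one]
  change _ = Coalgebra.counit (R := R) x • ((1 : D R B).ofConv b)
  have h3 : (1 : D R B).ofConv b = Coalgebra.counit (R := R) b := by
    simp [LinearMap.convOne_def]
  rw [h3, coalgebra_counit_apply, smul_eq_mul, smul_eq_mul, mul_comm]

theorem transpose_conv_pow (f : WithConv (B →ₐc[R] B)) (n : ℕ) :
    WithConv.toConv (transpose R (f ^ n).ofConv) = (WithConv.toConv (transpose R f.ofConv)) ^ n := by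
  induction n with
  | zero => exact transpose_conv_one.trans (pow_zero (WithConv.toConv (transpose R f.ofConv))).symm
  | succ n ih =>
    refine Eq.trans ?_ (pow_succ (WithConv.toConv (transpose R f.ofConv)) n).symm
    rw [← ih, ← transpose_conv]
    rfl

theorem transpose_id_pow (n : ℕ) :
    transpose R ((WithConv.toConv (BialgHom.id R B)) ^ n).ofConv =
      ((WithConv.toConv (BialgHom.id R (D R B))) ^ n).ofConv := by
  have h := transpose_conv_pow (WithConv.toConv (BialgHom.id R B)) n
  exact congrArg WithConv.ofConv h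

theorem transpose_eq_tr {B' : Type u} [CommRing B'] [HopfAlgebra R B'] [Module.Finite R B'] [Module.Free R B']
    (f : B' →ₐc[R] B) (x : D R B) : transpose R f x = tr (f : B' →ₗ[R] B) x := rfl

end Hopf

section DualSys

variable {R : Type u} [CommRing R] [IsDomain R] [IsPrincipalIdealRing R] {p h : ℕ}

/-- the dual of a Barsotti-Tate system. -/
noncomputable def Sys.dual (Φ : Sys R p h) : Sys R p h where
  B n := D R (Φ.B n)
  rank n := by rw [finrank_D, Φ.rank]
  res n := transpose R (Φ.inf n)
  inf n := transpose R (Φ.res n)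
  res_surj n := tr_surjective ((Φ.inf n : Φ.B n →ₐ[R] Φ.B (n + 1)) : Φ.B n →ₗ[R] Φ.B (n + 1)) (Φ.inf_inj n)
    (Φ.inf_sat n)
  inf_inj n := tr_injective ((Φ.res n : Φ.B (n + 1) →ₐ[R] Φ.B n) : Φ.B (n + 1) →ₗ[R] Φ.B n) (Φ.res_surj n)
  inf_sat n r b hr hb := tr_sat ((Φ.res n : Φ.B (n + 1) →ₐ[R] Φ.B n) : Φ.B (n + 1) →ₗ[R] Φ.B n) (Φ.res_surj n)
    r b hr hb
  res_inf n := by
    rw [← transpose_comp, Φ.res_inf, transpose_id_pow]
  inf_res n := by
    rw [← transpose_comp, Φ.inf_res, transpose_id_pow]

@[simp] theorem Sys.dual_B (Φ : Sys R p h) (n : ℕ) : Φ.dual.B n = D R (Φ.B n) := rfl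

theorem Sys.dual_res (Φ : Sys R p h) (n : ℕ) : Φ.dual.res n = transpose R (Φ.inf n) := rfl

theorem Sys.dual_inf (Φ : Sys R p h) (n : ℕ) : Φ.dual.inf n = transpose R (Φ.res n) := rfl

variable {S : Type u} [CommRing S] [Algebra R S]

/-- the biduality map, towards the dual of a layer of the dual system. -/
noncomputable def Sys.evalH (Φ : Sys R p h) (n : ℕ) : Φ.B n →ₐc[R] D R (Φ.dual.B n) := eval R (Φ.B n)

theorem Sys.evalH_apply (Φ : Sys R p h) (n : ℕ) (b : Φ.B n) (x : D R (Φ.B n)) : (Φ.evalH n b).ofConv x = x b := rfl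

theorem Sys.evalH_inf (Φ : Sys R p h) (n : ℕ) (b : Φ.B n) :
    transpose R (Φ.dual.res n) (Φ.evalH n b) = Φ.evalH (n + 1) (Φ.inf n b) := rfl

theorem Sys.evalH_res (Φ : Sys R p h) (n : ℕ) (b : Φ.B (n + 1)) :
    transpose R (Φ.dual.inf n) (Φ.evalH (n + 1) b) = Φ.evalH n (Φ.res n b) := rfl

/-- the Tate module of the dual of the dual is the Tate module. -/
noncomputable def Sys.dualT (Φ : Sys R p h) (S : Type u) [CommRing S] [Algebra R S] : Φ.dual.Y S →* Φ.T S where
  toFun y := ⟨fun n => pc (Φ.evalH n) S (y.1 n), fun n => by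
    have h := y.2 n
    exact congrArg (pc (Φ.evalH n) S) h⟩
  map_one' := by
    apply Subtype.ext
    funext n
    exact map_one (pc (Φ.evalH n) S)
  map_mul' x y := by
    apply Subtype.ext
    funext n
    exact map_mul (pc (Φ.evalH n) S) _ _

theorem Sys.dualT_apply (Φ : Sys R p h) (y : Φ.dual.Y S) (n : ℕ) :
    (Φ.dualT S y).1 n = pc (Φ.evalH n) S (y.1 n) := rfl

theorem Sys.dual_ev (Φ : Sys R p h) (s : ∀ n, D R (Φ.B n) →ₗ[R] R) (n : ℕ) (y : Φ.dual.Y S) :
    Φ.dual.ev s n (y.1 n) = pr (Φ.B n) ((Φ.dualT S y).1 n).ofConv.toLinearMap (toS S (s n)) :=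
  pr_dual (B := Φ.B n) (S := S) (toS S (s n)) (y.1 n).ofConv.toLinearMap

theorem eval_bijective (B : Type u) [CommRing B] [HopfAlgebra R B] [Coalgebra.IsCocomm R B] [Module.Finite R B]
    [Module.Free R B] : Function.Bijective (eval R B) := by
  have h := Module.bijective_dual_eval R B
  have h1 : Function.Bijective ((toDual R B).toLinearMap.dualMap) :=
    (toDual R B).dualMap.bijective
  have h2 : (⇑(eval R B) : B → D R (D R B)) = (toDual R (D R B)).symm ∘ (toDual R B).toLinearMap.dualMap ∘
      Module.Dual.eval R B := rfl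
  rw [h2]
  exact (toDual R (D R B)).symm.bijective.comp (h1.comp h)

theorem Sys.evalH_bijective (Φ : Sys R p h) (n : ℕ) : Function.Bijective (Φ.evalH n) := eval_bijective (Φ.B n)

/-- biduality as an algebra isomorphism. -/
noncomputable def Sys.evalE (Φ : Sys R p h) (n : ℕ) : Φ.B n ≃ₐ[R] D R (Φ.dual.B n) :=
  AlgEquiv.ofBijective (Φ.evalH n : Φ.B n →ₐ[R] D R (Φ.dual.B n)) (Φ.evalH_bijective n)

theorem Sys.evalE_apply (Φ : Sys R p h) (n : ℕ) (b : Φ.B n) : Φ.evalE n b = Φ.evalH n b := rfl

theorem Sys.dualT_bijective (Φ : Sys R p h) : Function.Bijective (Φ.dualT S) := by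
  constructor
  · intro x y hxy
    apply Subtype.ext
    funext n
    apply WithConv.ofConv_injective
    apply AlgHom.ext
    intro z
    obtain ⟨b, rfl⟩ := (Φ.evalE n).surjective z
    have h1 := congrArg (fun w : Φ.T S => (w.1 n).ofConv b) hxy
    exact h1
  · intro x
    refine ⟨⟨fun n => WithConv.toConv ((x.1 n).ofConv.comp (Φ.evalE n).symm.toAlgHom), ?_⟩, ?_⟩
    · intro n
      apply WithConv.ofConv_injective
      apply AlgHom.ext
      intro z
      obtain ⟨b, rfl⟩ := (Φ.evalE n).surjective z
      have h1 := congrArg (fun w : WithConv (Φ.B n →ₐ[R] S) => w.ofConv b) (x.2 n)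
      change (x.1 (n + 1)).ofConv ((Φ.evalE (n + 1)).symm (transpose R (Φ.dual.res n) (Φ.evalE n b))) =
        (x.1 n).ofConv ((Φ.evalE n).symm (Φ.evalE n b))
      rw [AlgEquiv.symm_apply_apply]
      refine Eq.trans ?_ h1
      rw [pc_apply]
      congr 1
      rw [AlgEquiv.symm_apply_eq]
      rfl
    · apply Subtype.ext
      funext n
      apply WithConv.ofConv_injective
      apply AlgHom.ext
      intro b
      change (x.1 n).ofConv ((Φ.evalE n).symm (Φ.evalE n b)) = _
      rw [AlgEquiv.symm_apply_apply]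

end DualSys

end K564.Tate
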