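import Groth.Agent.SGA7.K564.Tate.Iface
import Groth.Agent.SGA7.K564.Tate.Dual
import Groth.Agent.Ega3A.FlatResField
import Groth.Agent.Sga3A.BCIso
import Groth.Agent.Sga7.H757.CompleteDVR
import Mathlib.LinearAlgebra.Dimension.Constructions

/-!
# Base change of Barsotti-Tate systems, and of Tate's theorem
-/

set_option autoImplicit false
set_option linter.unusedSectionVars false
universe u v

open TensorProduct CartDual

namespace K564.Tate

section Hopf

variable {R : Type u} [CommRing R] {B : Type u} [CommRing B] [HopfAlgebra R B] [Coalgebra.IsCocomm R B]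
  (R' : Type u) [CommRing R'] [Algebra R R']

/-- base change of a bialgebra map. -/
noncomputable def bcHom {B' : Type u} [CommRing B'] [HopfAlgebra R B'] (f : B' →ₐc[R] B) :
    R' ⊗[R] B' →ₐc[R'] R' ⊗[R] B := Bialgebra.TensorProduct.map (BialgHom.id R' R') f

@[simp] theorem bcHom_tmul {B' : Type u} [CommRing B'] [HopfAlgebra R B'] (f : B' →ₐc[R] B) (r : R') (b : B') :
    bcHom R' f (r ⊗ₜ b) = r ⊗ₜ f b := rfl

theorem bcHom_ext {B' : Type u} [CommRing B'] [HopfAlgebra R B'] {C : Type u} [CommRing C] [HopfAlgebra R' C]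
    {f g : R' ⊗[R] B' →ₐc[R'] C} (h : ∀ b, f (1 ⊗ₜ b) = g (1 ⊗ₜ b)) : f = g := by
  apply BialgHom.ext
  intro z
  induction z using TensorProduct.induction_on with
  | zero => rw [map_zero, map_zero]
  | tmul r b =>
    have : r ⊗ₜ[R] b = r • ((1 : R') ⊗ₜ[R] b) := by rw [smul_tmul', smul_eq_mul, mul_one]
    rw [this, map_smul, map_smul, h]
  | add x y hx hy => rw [map_add, map_add, hx, hy]

theorem bcHom_comp {B' B'' : Type u} [CommRing B'] [HopfAlgebra R B'] [CommRing B''] [HopfAlgebra R B'']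
    (f : B' →ₐc[R] B) (g : B'' →ₐc[R] B') : bcHom R' (f.comp g) = (bcHom R' f).comp (bcHom R' g) :=
  bcHom_ext R' fun _ => rfl

theorem bcHom_conv (f g : WithConv (B →ₐc[R] B)) :
    WithConv.toConv (bcHom R' (f * g).ofConv) =
      WithConv.toConv (bcHom R' f.ofConv) * WithConv.toConv (bcHom R' g.ofConv) := by
  apply WithConv.ofConv_injective
  apply bcHom_ext
  intro b
  have h1 := congrArg (fun z : WithConv (R' ⊗[R] B →ₗ[R'] R' ⊗[R] B) => z.ofConv (1 ⊗ₜ b)) (BialgHom.toLinearMap_convMul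
    (WithConv.toConv (bcHom R' f.ofConv)) (WithConv.toConv (bcHom R' g.ofConv)))
  have h2 := congrArg (fun z : WithConv (B →ₗ[R] B) => z.ofConv b) (BialgHom.toLinearMap_convMul f g)
  refine Eq.trans ?_ h1.symm
  refine (congrArg (fun z => (1 : R') ⊗ₜ[R] z) h2).trans ?_
  let ρ := Coalgebra.Repr.arbitrary R b
  change (1 : R') ⊗ₜ[R] (LinearMap.mul' R B (TensorProduct.map (f.ofConv : B →ₗ[R] B) (g.ofConv : B →ₗ[R] B)
    (Coalgebra.comul (R := R) b))) = LinearMap.mul' R' (R' ⊗[R] B) (TensorProduct.map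
      (bcHom R' f.ofConv : R' ⊗[R] B →ₗ[R'] R' ⊗[R] B) (bcHom R' g.ofConv : R' ⊗[R] B →ₗ[R'] R' ⊗[R] B)
        (Coalgebra.comul (R := R') ((1 : R') ⊗ₜ[R] b)))
  rw [TensorProduct.comul_tmul, ← ρ.eq, CommSemiring.comul_apply, tmul_sum]
  simp only [map_sum, TensorProduct.AlgebraTensorModule.tensorTensorTensorComm_tmul, TensorProduct.map_tmul,
    LinearMap.mul'_apply, tmul_sum]
  refine Finset.sum_congr rfl fun i _ => ?_
  change _ = ((1 : R') ⊗ₜ[R] f.ofConv (ρ.left i)) * ((1 : R') ⊗ₜ[R] g.ofConv (ρ.right i))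
  rw [Algebra.TensorProduct.tmul_mul_tmul, one_mul]
  rfl

end Hopf

section Lin

/-- an injective saturated map of finite free modules over a principal ring has a retraction. -/
theorem exists_retraction {R : Type u} [CommRing R] [IsDomain R] [IsPrincipalIdealRing R] {A A'' : Type u}
    [AddCommGroup A] [Module R A] [Module.Finite R A] [AddCommGroup A''] [Module R A''] [Module.Finite R A'']
    [Module.Free R A''] (f : A'' →ₗ[R] A) (hf : Function.Injective f)
    (hs : ∀ (r : R) (b : A), r ≠ 0 → (∃ a, f a = r • b) → ∃ a, f a = b) : ∃ ρ : A →ₗ[R] A'', ρ ∘ₗ f = LinearMap.id := by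
  let b := Module.Free.chooseBasis R A''
  have h := tr_surjective f hf hs
  choose x hx using fun i => h (WithConv.toConv (b.coord i))
  refine ⟨∑ i, (x i).ofConv.smulRight (b i), ?_⟩
  apply LinearMap.ext
  intro a
  have hx' : ∀ i, (x i).ofConv (f a) = b.coord i a := fun i =>
    congrArg (fun z : D R A'' => z.ofConv a) (hx i)
  simp only [LinearMap.coe_comp, Function.comp_apply, LinearMap.coe_sum, Finset.sum_apply,
    LinearMap.smulRight_apply, LinearMap.id_coe, id_eq, hx', Module.Basis.coord_apply]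
  exact b.sum_repr a

end Lin

section SysBC

variable {R : Type u} [CommRing R] [IsDomain R] [IsPrincipalIdealRing R] {p h : ℕ}
  (R' : Type u) [CommRing R'] [IsDomain R'] [Algebra R R']

theorem bcHom_id_pow (B : Type u) [CommRing B] [HopfAlgebra R B] [Coalgebra.IsCocomm R B] (n : ℕ) :
    bcHom R' ((WithConv.toConv (BialgHom.id R B)) ^ n).ofConv =
      ((WithConv.toConv (BialgHom.id R' (R' ⊗[R] B))) ^ n).ofConv := by
  have h0 : bcHom R' (BialgHom.id R B) = BialgHom.id R' (R' ⊗[R] B) := bcHom_ext R' fun _ => rfl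
  have h1 : bcHom R' (1 : WithConv (B →ₐc[R] B)).ofConv = (1 : WithConv (R' ⊗[R] B →ₐc[R'] R' ⊗[R] B)).ofConv := by
    apply bcHom_ext
    intro b
    change (1 : R') ⊗ₜ[R] algebraMap R B (Coalgebra.counit b) =
      algebraMap R' (R' ⊗[R] B) (Coalgebra.counit ((1 : R') ⊗ₜ[R] b))
    rw [TensorProduct.counit_tmul, Algebra.algebraMap_eq_smul_one, tmul_smul, Algebra.algebraMap_eq_smul_one,
      Algebra.TensorProduct.one_def, smul_assoc]
    simp
  induction n with
  | zero => rw [pow_zero, pow_zero, h1]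
  | succ n ih =>
    rw [pow_succ, pow_succ]
    have h2 := congrArg WithConv.ofConv (bcHom_conv R' (WithConv.toConv (BialgHom.id R B) ^ n)
      (WithConv.toConv (BialgHom.id R B)))
    refine h2.trans ?_
    congr 2
    · rw [ih]
    · change WithConv.toConv (bcHom R' (BialgHom.id R B)) = _
      rw [h0]

/-- base change of a Barsotti-Tate system. -/
noncomputable def Sys.bc (Φ : Sys R p h) : Sys R' p h where
  B n := R' ⊗[R] Φ.B n
  rank n := by rw [Module.finrank_baseChange, Φ.rank]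
  res n := bcHom R' (Φ.res n)
  inf n := bcHom R' (Φ.inf n)
  res_surj n := LinearMap.lTensor_surjective R' (g := ((Φ.res n : Φ.B (n + 1) →ₐ[R] Φ.B n) : Φ.B (n + 1) →ₗ[R] Φ.B n))
    (Φ.res_surj n)
  inf_inj n := by
    obtain ⟨ρ, hρ⟩ := exists_retraction ((Φ.inf n : Φ.B n →ₐ[R] Φ.B (n + 1)) : Φ.B n →ₗ[R] Φ.B (n + 1)) (Φ.inf_inj n)
      (Φ.inf_sat n)
    have h1 : Function.LeftInverse (ρ.lTensor R') (bcHom R' (Φ.inf n)) := by
      intro x
      have h2 := LinearMap.congr_fun (congrArg (LinearMap.lTensor R') hρ) x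
      rw [LinearMap.lTensor_comp, LinearMap.lTensor_id] at h2
      exact h2
    exact h1.injective
  inf_sat n r b hr := by
    rintro ⟨a, ha⟩
    obtain ⟨ρ, hρ⟩ := exists_retraction ((Φ.inf n : Φ.B n →ₐ[R] Φ.B (n + 1)) : Φ.B n →ₗ[R] Φ.B (n + 1)) (Φ.inf_inj n)
      (Φ.inf_sat n)
    have h1 : Function.LeftInverse (ρ.baseChange R') (bcHom R' (Φ.inf n)) := by
      intro x
      have h2 := LinearMap.congr_fun (congrArg (LinearMap.lTensor R') hρ) x
      rw [LinearMap.lTensor_comp, LinearMap.lTensor_id] at h2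
      exact h2
    refine ⟨ρ.baseChange R' b, ?_⟩
    apply smul_right_injective (R' ⊗[R] Φ.B (n + 1)) hr
    change r • bcHom R' (Φ.inf n) (ρ.baseChange R' b) = r • b
    rw [← ha, ← map_smul, ← map_smul, ← ha, h1]
  res_inf n := by
    rw [← bcHom_comp, Φ.res_inf, bcHom_id_pow]
  inf_res n := by
    rw [← bcHom_comp, Φ.inf_res, bcHom_id_pow]

end SysBC

section Exists

open IsLocalRing

/-- an unramified extension of discrete valuation rings with complete target and algebraically closed residue field. -/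
theorem exists_big (R : Type u) [CommRing R] [IsDomain R] [IsDiscreteValuationRing R] :
    ∃ (R' : Type u) (_ : CommRing R') (_ : IsDomain R') (_ : IsDiscreteValuationRing R') (_ : Algebra R R'),
      IsAdicComplete (maximalIdeal R') R' ∧ IsAlgClosed (ResidueField R') ∧ IsLocalHom (algebraMap R R') ∧
      Function.Injective (algebraMap R R') ∧ (maximalIdeal R).map (algebraMap R R') = maximalIdeal R' := by
  obtain ⟨π, hπ⟩ := IsDiscreteValuationRing.exists_irreducible R
  let κ := AlgebraicClosure (ResidueField R)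
  let σ : R →+* κ := (algebraMap (ResidueField R) κ).comp (residue R)
  have hσ : RingHom.ker σ = maximalIdeal R := by
    rw [← RingHom.comap_ker, (RingHom.injective_iff_ker_eq_bot _).1
      (algebraMap (ResidueField R) κ).injective, ← RingHom.ker_eq_comap_bot, ker_residue]
  obtain ⟨B, _, _, _, τ, g1, g2, g3, g4, g5, g6, g7⟩ :=
    Groth.Agent.Ega3A.FlatResField.exists_flat_local_ext σ hσ
  have hN : IsNoetherianRing B := g3 inferInstance
  have hff : Module.FaithfullyFlat R B := Module.FaithfullyFlat.of_flat_of_isLocalHom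
  have hinj : Function.Injective (algebraMap R B) := FaithfulSMul.algebraMap_injective R B
  have hmaxB : maximalIdeal B = Ideal.span {algebraMap R B π} := by
    rw [← g4, hπ.maximalIdeal_eq, Ideal.map_span, Set.image_singleton]
  have hnil : ¬ IsNilpotent (algebraMap R B π) := by
    rintro ⟨k, hk⟩
    rw [← map_pow] at hk
    exact hπ.ne_zero (IsNilpotent.eq_zero ⟨k, hinj (by rw [hk, map_zero])⟩)
  obtain ⟨W, _, _, _, _, ρ, e1, e2, e3, e4, e5, e6⟩ :=
    Groth.Agent.Sga7.H757.CompleteDVR.exists_completion B _ hmaxB hnil κ τ g5 g7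
  let _ : Algebra R W := ((algebraMap B W).comp (algebraMap R B)).toAlgebra
  have hinjW : Function.Injective (algebraMap R W) := e3.comp hinj
  have hmW : maximalIdeal W = Ideal.span {algebraMap R W π} := e2
  have hπW : algebraMap R W π ≠ 0 := fun h => hπ.ne_zero (hinjW (by rw [h, map_zero]))
  have hcomp : IsAdicComplete (maximalIdeal W) W := by rw [e2]; exact e1
  have hirr : Irreducible (algebraMap R W π) := by
    have hp : (Ideal.span {algebraMap R W π}).IsPrime := by rw [← hmW]; infer_instance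
    exact ((Ideal.span_singleton_prime hπW).1 hp).irreducible
  have hfac : ∀ {x : W}, x ≠ 0 → ∃ n : ℕ, Associated (algebraMap R W π ^ n) x := by
    intro x hx
    have hex : ∃ k : ℕ, x ∉ (maximalIdeal W) ^ k := by
      by_contra hcon
      push Not at hcon
      refine hx (IsHausdorff.haus (I := maximalIdeal W) inferInstance x fun k => ?_)
      rw [SModEq.zero, smul_eq_mul, Ideal.mul_top]
      exact hcon k
    classical
    let k := Nat.find hex
    have hk : x ∉ (maximalIdeal W) ^ k := Nat.find_spec hex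
    have hk0 : k ≠ 0 := by
      intro h0
      rw [h0, pow_zero, Ideal.one_eq_top] at hk
      exact hk trivial
    obtain ⟨l, hl⟩ := Nat.exists_eq_succ_of_ne_zero hk0
    have hl' : x ∈ (maximalIdeal W) ^ l := by
      by_contra hcon
      exact Nat.find_min hex (m := l) (by change l < k; omega) hcon
    rw [hmW, Ideal.span_singleton_pow, Ideal.mem_span_singleton] at hl'
    obtain ⟨u, rfl⟩ := hl'
    have hu : IsUnit u := by
      by_contra hu
      have hu' : u ∈ maximalIdeal W := hu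
      rw [hmW, Ideal.mem_span_singleton] at hu'
      obtain ⟨v, rfl⟩ := hu'
      apply hk
      rw [hmW, Ideal.span_singleton_pow, Ideal.mem_span_singleton, hl]
      exact ⟨v, by rw [pow_succ]; ring⟩
    exact ⟨l, hu.unit, rfl⟩
  have hdvr : IsDiscreteValuationRing W :=
    IsDiscreteValuationRing.ofHasUnitMulPowIrreducibleFactorization ⟨algebraMap R W π, hirr, fun {x} hx => hfac hx⟩
  have hmap : (maximalIdeal R).map (algebraMap R W) = maximalIdeal W := by
    rw [hmW, hπ.maximalIdeal_eq, Ideal.map_span, Set.image_singleton]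
  refine ⟨W, inferInstance, inferInstance, hdvr, inferInstance, hcomp, ?_, ?_, hinjW, hmap⟩
  · let e : ResidueField W ≃+* κ := (Ideal.quotEquivOfEq e4.symm).trans
      (RingHom.quotientKerEquivOfSurjective e5)
    exact IsAlgClosed.of_ringEquiv κ (ResidueField W) e.symm
  · refine ((IsLocalRing.local_hom_TFAE (algebraMap R W)).out 0 2).2 ?_
    rw [hmap]

end Exists

section Descend

open IsLocalRing Groth.Agent.Sga3A.BCIso

theorem exists_of_algebraMap_eq {R K R' K' : Type u} [CommRing R] [IsDomain R] [IsDiscreteValuationRing R] [Field K]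
    [Algebra R K] [IsFractionRing R K] [CommRing R'] [IsDomain R'] [Algebra R R'] [IsLocalHom (algebraMap R R')]
    [Field K'] [Algebra R' K'] [IsFractionRing R' K'] [Algebra K K'] [Algebra R K'] [IsScalarTower R R' K']
    [IsScalarTower R K K'] (k : K) (r' : R') (h : algebraMap K K' k = algebraMap R' K' r') :
    ∃ r : R, algebraMap R K r = k := by
  rcases ValuationRing.isInteger_or_isInteger R k with ⟨r, hr⟩ | ⟨r, hr⟩
  · exact ⟨r, hr⟩
  · by_cases hk : k = 0
    · exact ⟨0, by rw [map_zero, hk]⟩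
    have h1 : algebraMap R R' r * r' = 1 := by
      apply IsFractionRing.injective R' K'
      rw [map_mul, map_one, ← h, ← IsScalarTower.algebraMap_apply R R' K', IsScalarTower.algebraMap_apply R K K', hr,
        ← map_mul, inv_mul_cancel₀ hk, map_one]
    have h2 : IsUnit (algebraMap R R' r) := IsUnit.of_mul_eq_one _ h1
    have h3 : IsUnit r := isUnit_of_map_unit (algebraMap R R') r h2
    obtain ⟨u, rfl⟩ := h3
    refine ⟨((u⁻¹ : Rˣ) : R), ?_⟩
    have h4 : algebraMap R K (u : R) * algebraMap R K ((u⁻¹ : Rˣ) : R) = 1 := by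
      rw [← map_mul, Units.mul_inv, map_one]
    rw [hr] at h4
    field_simp at h4
    exact h4

theorem cancel_lTensor {R K R' K' : Type u} [CommRing R] [Field K]
    [Algebra R K] [CommRing R'] [Algebra R R'] [Field K'] [Algebra R' K'] [Algebra K K'] [Algebra R K']
    [IsScalarTower R R' K'] [IsScalarTower R K K'] {B₁ B₂ : Type u} [CommRing B₁] [HopfAlgebra R B₁] [CommRing B₂]
    [HopfAlgebra R B₂] (f : B₁ →ₐc[R] B₂) (c : K') (y : K ⊗[R] B₁) :
    (cancelBialg R R' K' B₂).symm (cancelBialg R K K' B₂ (c ⊗ₜ[K] (f : B₁ →ₐ[R] B₂).toLinearMap.lTensor K y)) =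
      (bcHom R' f : R' ⊗[R] B₁ →ₐ[R'] R' ⊗[R] B₂).toLinearMap.lTensor K'
        ((cancelBialg R R' K' B₁).symm (cancelBialg R K K' B₁ (c ⊗ₜ[K] y))) := by
  induction y using TensorProduct.induction_on with
  | zero => simp only [map_zero, tmul_zero]
  | tmul k b =>
    rw [LinearMap.lTensor_tmul, cancelBialg_tmul, cancelBialg_symm_tmul, cancelBialg_tmul, cancelBialg_symm_tmul,
      LinearMap.lTensor_tmul]
    rfl
  | add y y' hy hy' => simp only [map_add, tmul_add, hy, hy']

/-- **Tate's theorem over an arbitrary discrete valuation ring of mixed characteristic**, from the case of a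
complete one with algebraically closed residue field. -/
theorem NFull.descend (hN : NFull.{u}) (R K : Type u) [CommRing R] [IsDomain R] [IsDiscreteValuationRing R] [CharZero R]
    [Field K] [Algebra R K] [IsFractionRing R K] (p h h' : ℕ) [Fact p.Prime]
    (hp : (p : R) ∈ IsLocalRing.maximalIdeal R) (Φ : Sys R p h) (Φ' : Sys R p h')
    (φ : ∀ n, K ⊗[R] Φ'.B n →ₐc[K] K ⊗[R] Φ.B n)
    (hres : ∀ n (a : Φ'.B (n + 1)), φ n (1 ⊗ₜ Φ'.res n a) =
      (Φ.res n : Φ.B (n + 1) →ₐ[R] Φ.B n).toLinearMap.lTensor K (φ (n + 1) (1 ⊗ₜ a)))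
    (hinf : ∀ n (a : Φ'.B n), φ (n + 1) (1 ⊗ₜ Φ'.inf n a) =
      (Φ.inf n : Φ.B n →ₐ[R] Φ.B (n + 1)).toLinearMap.lTensor K (φ n (1 ⊗ₜ a)))
    (n : ℕ) (a : Φ'.B n) : ∃ b : Φ.B n, φ n (1 ⊗ₜ a) = 1 ⊗ₜ b := by
  obtain ⟨R', _, _, _, _, hcomp, hcl, hloc, hinj, -⟩ := exists_big R
  let K' := FractionRing R'
  let _ : Algebra K K' := (IsFractionRing.lift (K := K) (g := (algebraMap R' K').comp (algebraMap R R'))
    ((IsFractionRing.injective R' K').comp hinj)).toAlgebra
  have hst : IsScalarTower R K K' := IsScalarTower.of_algebraMap_eq fun x => by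
    rw [RingHom.algebraMap_toAlgebra, IsFractionRing.lift_algebraMap]
    rfl
  have hch : CharZero R' := charZero_of_injective_algebraMap hinj
  have hp' : (p : R') ∈ maximalIdeal R' := by
    rw [mem_maximalIdeal, mem_nonunits_iff]
    intro hu
    rw [← map_natCast (algebraMap R R')] at hu
    exact (mem_maximalIdeal (p : R)).1 hp (isUnit_of_map_unit (algebraMap R R') _ hu)
  let φ' : ∀ n, K' ⊗[R'] (R' ⊗[R] Φ'.B n) →ₐc[K'] K' ⊗[R'] (R' ⊗[R] Φ.B n) := fun n =>
    ((cancelBialg R R' K' (Φ.B n)).symm : K' ⊗[R] Φ.B n →ₐc[K'] K' ⊗[R'] (R' ⊗[R] Φ.B n)).comp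
      ((cancelBialg R K K' (Φ.B n) : K' ⊗[K] (K ⊗[R] Φ.B n) →ₐc[K'] K' ⊗[R] Φ.B n).comp
        ((mapBialg K' (φ n)).comp
          (((cancelBialg R K K' (Φ'.B n)).symm : K' ⊗[R] Φ'.B n →ₐc[K'] K' ⊗[K] (K ⊗[R] Φ'.B n)).comp
            (cancelBialg R R' K' (Φ'.B n) : K' ⊗[R'] (R' ⊗[R] Φ'.B n) →ₐc[K'] K' ⊗[R] Φ'.B n))))
  have hφ' : ∀ n (r : R') (a : Φ'.B n), φ' n (1 ⊗ₜ[R'] (r ⊗ₜ[R] a)) = (cancelBialg R R' K' (Φ.B n)).symm
      (cancelBialg R K K' (Φ.B n) (algebraMap R' K' r ⊗ₜ[K] φ n (1 ⊗ₜ[R] a))) := by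
    intro n r a
    change (cancelBialg R R' K' (Φ.B n)).symm (cancelBialg R K K' (Φ.B n) (mapBialg K' (φ n)
      ((cancelBialg R K K' (Φ'.B n)).symm (cancelBialg R R' K' (Φ'.B n) (1 ⊗ₜ[R'] (r ⊗ₜ[R] a)))))) = _
    rw [cancelBialg_tmul, one_mul, cancelBialg_symm_tmul, mapBialg_tmul]
  have hres' : ∀ n (z : R' ⊗[R] Φ'.B (n + 1)), φ' n (1 ⊗ₜ[R'] bcHom R' (Φ'.res n) z) =
      (bcHom R' (Φ.res n) : R' ⊗[R] Φ.B (n + 1) →ₐ[R'] R' ⊗[R] Φ.B n).toLinearMap.lTensor K'
        (φ' (n + 1) (1 ⊗ₜ[R'] z)) := by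
    intro n z
    induction z using TensorProduct.induction_on with
    | zero => simp only [map_zero, tmul_zero]
    | tmul r a =>
      rw [bcHom_tmul, hφ', hφ', hres]
      exact cancel_lTensor (Φ.res n) _ _
    | add x y hx hy => simp only [map_add, tmul_add, hx, hy]
  have hinf' : ∀ n (z : R' ⊗[R] Φ'.B n), φ' (n + 1) (1 ⊗ₜ[R'] bcHom R' (Φ'.inf n) z) =
      (bcHom R' (Φ.inf n) : R' ⊗[R] Φ.B n →ₐ[R'] R' ⊗[R] Φ.B (n + 1)).toLinearMap.lTensor K'
        (φ' n (1 ⊗ₜ[R'] z)) := by
    intro n z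
    induction z using TensorProduct.induction_on with
    | zero => simp only [map_zero, tmul_zero]
    | tmul r a =>
      rw [bcHom_tmul, hφ', hφ', hinf]
      exact cancel_lTensor (Φ.inf n) _ _
    | add x y hx hy => simp only [map_add, tmul_add, hx, hy]
  have key : ∃ b' : R' ⊗[R] Φ.B n, φ' n (1 ⊗ₜ[R'] (1 ⊗ₜ[R] a)) = 1 ⊗ₜ[R'] b' :=
    hN R' K' p h h' hp' (Φ.bc R') (Φ'.bc R') φ' hres' hinf' n (1 ⊗ₜ[R] a)
  obtain ⟨b', hb'⟩ := key
  rw [hφ', map_one] at hb'
  have h1 : cancelBialg R K K' (Φ.B n) (1 ⊗ₜ[K] φ n (1 ⊗ₜ[R] a)) = cancelBialg R R' K' (Φ.B n) (1 ⊗ₜ[R'] b') := by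
    rw [← hb', BialgEquiv.apply_symm_apply]
  let e := Module.Free.chooseBasis R (Φ.B n)
  have h2 : ∀ y : K ⊗[R] Φ.B n, ∀ i, (Algebra.TensorProduct.basis K' e).repr (cancelBialg R K K' (Φ.B n) (1 ⊗ₜ[K] y)) i =
      algebraMap K K' ((Algebra.TensorProduct.basis K e).repr y i) := by
    intro y i
    induction y using TensorProduct.induction_on with
    | zero => simp only [map_zero, tmul_zero, Finsupp.coe_zero, Pi.zero_apply]
    | tmul k b =>
      rw [cancelBialg_tmul, one_mul, Algebra.TensorProduct.basis_repr_tmul, Algebra.TensorProduct.basis_repr_tmul]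
      simp only [Finsupp.smul_apply, Finsupp.mapRange_apply, smul_eq_mul, map_mul,
        ← IsScalarTower.algebraMap_apply R K K']
    | add x y hx hy => simp only [map_add, tmul_add, Finsupp.add_apply, hx, hy]
  have h3 : ∀ y : R' ⊗[R] Φ.B n, ∀ i, (Algebra.TensorProduct.basis K' e).repr (cancelBialg R R' K' (Φ.B n) (1 ⊗ₜ[R'] y)) i =
      algebraMap R' K' ((Algebra.TensorProduct.basis R' e).repr y i) := by
    intro y i
    induction y using TensorProduct.induction_on with
    | zero => simp only [map_zero, tmul_zero, Finsupp.coe_zero, Pi.zero_apply]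
    | tmul k b =>
      rw [cancelBialg_tmul, one_mul, Algebra.TensorProduct.basis_repr_tmul, Algebra.TensorProduct.basis_repr_tmul]
      simp only [Finsupp.smul_apply, Finsupp.mapRange_apply, smul_eq_mul, map_mul,
        ← IsScalarTower.algebraMap_apply R R' K']
    | add x y hx hy => simp only [map_add, tmul_add, Finsupp.add_apply, hx, hy]
  have h4 : ∀ i, ∃ r : R, algebraMap R K r = (Algebra.TensorProduct.basis K e).repr (φ n (1 ⊗ₜ[R] a)) i := fun i =>
    exists_of_algebraMap_eq (R' := R') (K' := K') _ ((Algebra.TensorProduct.basis R' e).repr b' i) (by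
      rw [← h2, ← h3, h1])
  choose r hr using h4
  refine ⟨∑ i, r i • e i, ?_⟩
  rw [tmul_sum, ← (Algebra.TensorProduct.basis K e).sum_repr (φ n (1 ⊗ₜ[R] a))]
  refine Finset.sum_congr rfl fun i _ => ?_
  rw [← hr, Algebra.TensorProduct.basis_apply, tmul_smul, algebraMap_smul]

end Descend

section Lift

variable {R K : Type u} [CommRing R] [IsDomain R] [Field K] [Algebra R K] [IsFractionRing R K]

theorem one_tmul_injective (M : Type u) [AddCommGroup M] [Module R M] [Module.Free R M] :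
    Function.Injective (fun m : M => (1 : K) ⊗ₜ[R] m) := by
  have h := Module.Flat.rTensor_preserves_injective_linearMap (M := M) (Algebra.linearMap R K)
    (IsFractionRing.injective R K)
  intro m m' hm
  have h1 : (Algebra.linearMap R K).rTensor M ((1 : R) ⊗ₜ m) = (Algebra.linearMap R K).rTensor M ((1 : R) ⊗ₜ m') := by
    simpa using hm
  have h2 := h h1
  have h3 := congrArg (TensorProduct.lid R M) h2
  simpa using h3

theorem exists_bialgHom {B B' : Type u} [CommRing B] [HopfAlgebra R B] [Module.Free R B] [CommRing B'] [HopfAlgebra R B']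
    (ψ : K ⊗[R] B' →ₐc[K] K ⊗[R] B) (H : ∀ a : B', ∃ b : B, ψ (1 ⊗ₜ a) = 1 ⊗ₜ b) :
    ∃ g : B' →ₐc[R] B, ∀ a, ψ (1 ⊗ₜ a) = 1 ⊗ₜ g a := by
  choose g hg using H
  have hinj := one_tmul_injective (R := R) (K := K) B
  let g₀ : B' →ₐ[R] B :=
    { toFun := g
      map_one' := hinj (by
        change (1 : K) ⊗ₜ[R] g 1 = 1 ⊗ₜ 1
        rw [← hg, ← Algebra.TensorProduct.one_def, ← Algebra.TensorProduct.one_def, map_one])
      map_mul' := fun a b => hinj (by
        change (1 : K) ⊗ₜ[R] g (a * b) = 1 ⊗ₜ (g a * g b)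
        have h1 : (1 : K) ⊗ₜ[R] (a * b) = (1 ⊗ₜ a) * (1 ⊗ₜ b) := by
          rw [Algebra.TensorProduct.tmul_mul_tmul, one_mul]
        rw [← hg, h1, map_mul, hg, hg, Algebra.TensorProduct.tmul_mul_tmul, one_mul])
      map_zero' := hinj (by
        change (1 : K) ⊗ₜ[R] g 0 = 1 ⊗ₜ 0
        rw [← hg, tmul_zero, map_zero, tmul_zero])
      map_add' := fun a b => hinj (by
        change (1 : K) ⊗ₜ[R] g (a + b) = 1 ⊗ₜ (g a + g b)
        rw [← hg, tmul_add, map_add, hg, hg, tmul_add])
      commutes' := fun r => hinj (by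
        change (1 : K) ⊗ₜ[R] g (algebraMap R B' r) = 1 ⊗ₜ (algebraMap R B r)
        have h1 : ∀ (C : Type u) [CommRing C] [Algebra R C], (1 : K) ⊗ₜ[R] algebraMap R C r =
            algebraMap K (K ⊗[R] C) (algebraMap R K r) := by
          intro C _ _
          rw [Algebra.TensorProduct.algebraMap_apply, Algebra.algebraMap_eq_smul_one r (A := C), tmul_smul, smul_tmul',
            Algebra.smul_def, mul_one]
          rfl
        rw [← hg, h1, h1, AlgHomClass.commutes]) }
  have hg₀ : ∀ a, g₀ a = g a := fun _ => rfl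
  refine ⟨BialgHom.ofAlgHom g₀ ?_ ?_, hg⟩
  · apply AlgHom.ext
    intro a
    apply IsFractionRing.injective R K
    change algebraMap R K (Coalgebra.counit (R := R) (g a)) = algebraMap R K (Coalgebra.counit (R := R) a)
    have h1 : ∀ (C : Type u) [CommRing C] [HopfAlgebra R C] (c : C),
        Coalgebra.counit (R := K) ((1 : K) ⊗ₜ[R] c) = algebraMap R K (Coalgebra.counit (R := R) c) := by
      intro C _ _ c
      rw [TensorProduct.counit_tmul, Algebra.smul_def]
      simp
    rw [← h1, ← h1, ← hg, CoalgHomClass.counit_comp_apply]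
  · apply AlgHom.ext
    intro a
    have hinj2 := one_tmul_injective (R := R) (K := K) (B ⊗[R] B)
    apply hinj2
    apply (TensorProduct.AlgebraTensorModule.distribBaseChange R K B B).injective
    have h1 : ∀ (C : Type u) [CommRing C] [HopfAlgebra R C] (c : C),
        TensorProduct.AlgebraTensorModule.distribBaseChange R K C C ((1 : K) ⊗ₜ[R] (Coalgebra.comul (R := R) c)) =
          Coalgebra.comul (R := K) ((1 : K) ⊗ₜ[R] c) := by
      intro C _ _ c
      rw [TensorProduct.comul_tmul, CommSemiring.comul_apply]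
      generalize Coalgebra.comul (R := R) c = z
      induction z using TensorProduct.induction_on with
      | zero => simp only [tmul_zero, map_zero]
      | tmul x y => simp
      | add x y hx hy => simp only [tmul_add, map_add, hx, hy]
    have h2 : ∀ z : B' ⊗[R] B', TensorProduct.AlgebraTensorModule.distribBaseChange R K B B
        ((1 : K) ⊗ₜ[R] TensorProduct.map g₀.toLinearMap g₀.toLinearMap z) =
        TensorProduct.map (ψ : K ⊗[R] B' →ₗ[K] K ⊗[R] B) (ψ : K ⊗[R] B' →ₗ[K] K ⊗[R] B)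
          (TensorProduct.AlgebraTensorModule.distribBaseChange R K B' B' ((1 : K) ⊗ₜ[R] z)) := by
      intro z
      induction z using TensorProduct.induction_on with
      | zero => simp only [tmul_zero, map_zero]
      | tmul x y =>
        have e1 : (ψ : K ⊗[R] B' →ₗ[K] K ⊗[R] B) (1 ⊗ₜ x) = 1 ⊗ₜ g₀ x := hg x
        have e2 : (ψ : K ⊗[R] B' →ₗ[K] K ⊗[R] B) (1 ⊗ₜ y) = 1 ⊗ₜ g₀ y := hg y
        simp [e1, e2]
      | add x y hx hy => simp only [tmul_add, map_add, hx, hy]
    change TensorProduct.AlgebraTensorModule.distribBaseChange R K B B ((1 : K) ⊗ₜ[R]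
        TensorProduct.map g₀.toLinearMap g₀.toLinearMap (Coalgebra.comul (R := R) a)) =
      TensorProduct.AlgebraTensorModule.distribBaseChange R K B B ((1 : K) ⊗ₜ[R] (Coalgebra.comul (R := R) (g a)))
    rw [h2, h1, h1, ← hg, ← CoalgHomClass.map_comp_comul_apply]

end Lift

section FullR

/-- **Tate's theorem** in final algebraic form, over a discrete valuation ring of mixed characteristic. -/
theorem NFull.exists_hom (hN : NFull.{u}) (R K : Type u) [CommRing R] [IsDomain R] [IsDiscreteValuationRing R] [CharZero R]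
    [Field K] [Algebra R K] [IsFractionRing R K] (p h h' : ℕ) [Fact p.Prime]
    (hp : (p : R) ∈ IsLocalRing.maximalIdeal R) (Φ : Sys R p h) (Φ' : Sys R p h')
    (φ : ∀ n, K ⊗[R] Φ'.B n →ₐc[K] K ⊗[R] Φ.B n)
    (hres : ∀ n (a : Φ'.B (n + 1)), φ n (1 ⊗ₜ Φ'.res n a) =
      (Φ.res n : Φ.B (n + 1) →ₐ[R] Φ.B n).toLinearMap.lTensor K (φ (n + 1) (1 ⊗ₜ a)))
    (hinf : ∀ n (a : Φ'.B n), φ (n + 1) (1 ⊗ₜ Φ'.inf n a) =
      (Φ.inf n : Φ.B n →ₐ[R] Φ.B (n + 1)).toLinearMap.lTensor K (φ n (1 ⊗ₜ a))) :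
    ∃ g : ∀ n, Φ'.B n →ₐc[R] Φ.B n, (∀ n a, φ n (1 ⊗ₜ a) = 1 ⊗ₜ g n a) ∧
      (∀ n a, g n (Φ'.res n a) = Φ.res n (g (n + 1) a)) ∧ (∀ n a, g (n + 1) (Φ'.inf n a) = Φ.inf n (g n a)) := by
  choose g hg using fun n => exists_bialgHom (φ n) (hN.descend R K p h h' hp Φ Φ' φ hres hinf n)
  refine ⟨g, hg, fun n a => ?_, fun n a => ?_⟩
  · apply one_tmul_injective (R := R) (K := K) (Φ.B n)
    change (1 : K) ⊗ₜ[R] g n (Φ'.res n a) = 1 ⊗ₜ Φ.res n (g (n + 1) a)
    rw [← hg, hres, hg, LinearMap.lTensor_tmul]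
    rfl
  · apply one_tmul_injective (R := R) (K := K) (Φ.B (n + 1))
    change (1 : K) ⊗ₜ[R] g (n + 1) (Φ'.inf n a) = 1 ⊗ₜ Φ.inf n (g n a)
    rw [← hg, hinf, hg, LinearMap.lTensor_tmul]
    rfl

end FullR

end K564.Tate
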