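import Groth.Agent.SGA7.K346.ViaAsm
import Groth.Agent.SGA7.K346.Om
import Groth.Agent.SGA7.K751.FinMain
import Groth.Agent.SGA7.K497.PolVia
import Groth.Agent.SGA7.K226.PolDed
import Groth.Agent.SGA7.K411.ViaGen
import Groth.Agent.SGA7.K565.TateFinal

/-!
# The semistable half of S12319
-/

set_option autoImplicit false
universe u

open CategoryTheory CategoryTheory.Limits AlgebraicGeometry MonObj
open K564.Tate

namespace K564.TateVia

theorem fin : K346.ViaAsm.FIN.{u} :=
  fun R K _ _ _ _ _ _ _ _ _ p _ H _ _ _ _ _ hirr hGa _ _ => K751.FinMain.fin R K p H hirr hGa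

theorem hend : K346.ViaAsm.END.{u} :=
  fun R K _ _ _ _ _ _ _ p _ A _ _ _ g hg H _ _ _ _ _ hirr hGa e he hW W j hj hgh =>
    K751.FinMain.«end» R K p A g hg H hirr hGa e he hW W j hj hgh

theorem om : K346.ViaAsm.OM.{u} :=
  fun R K _ _ _ _ _ _ _ _ _ p _ hp g H _ _ _ _ _ _ hg hW W j hj _ _ Ψ M =>
    K346.Om.main (R := R) (K := K) p hp g H hg hW W j hj Ψ M

/-- `VIA`. -/
theorem via : K411.Via.VIA.{u} :=
  fun R K _ _ _ _ _ _ _ _ _ p _ hp N _ _ _ _ _ hN A _ _ _ _ e₀ he₀ P _ i t hP h G e he het hei =>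
    K346.ViaAsm.main_of fin hend om K497.PolVia.polR K226.PolDed.polDed R K p hp N hN A e₀ he₀ P i t hP h G e he
      het hei

/-- The semistable case over every discrete valuation ring of mixed characteristic. -/
theorem viaMain : K565.TateFinal.ViaMain.{u} :=
  fun R K _ _ _ _ _ _ _ l _ hl A _ _ _ _ hA P _ i t hP h G e he het hei =>
    K411.Via.main via R K l hl A hA P i t hP h G e he het hei

end K564.TateVia
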