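import Groth.Agent.SGA7.K564.Tate.Defs

/-!
# The contraction pairing between linear maps on a Hopf algebra and on its dual
-/

set_option autoImplicit false
set_option linter.unusedSectionVars false
set_option linter.unusedSimpArgs false
universe u v

open TensorProduct CartDual

namespace K564.Tate

section Lin

variable {R : Type u} [CommRing R] {B : Type u} [AddCommGroup B] [Module R B] [Module.Finite R B] [Module.Free R B]
  {S : Type v} [CommRing S] [Algebra R S]

/-- scalar forms on `B` as `S`-valued maps. -/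
noncomputable def io (S : Type v) [CommRing S] [Algebra R S] (x : D R B) : B →ₗ[R] S :=
  (Algebra.linearMap R S) ∘ₗ x.ofConv

/-- evaluations as `S`-valued maps on the dual. -/
noncomputable def evb (S : Type v) [CommRing S] [Algebra R S] (b : B) : D R B →ₗ[R] S :=
  (Algebra.linearMap R S) ∘ₗ (LinearMap.applyₗ b ∘ₗ (toDual R B).toLinearMap)

theorem io_apply (x : D R B) (b : B) : io S x b = algebraMap R S (x b) := rfl

theorem evb_apply (b : B) (x : D R B) : evb S b x = algebraMap R S (x b) := rfl

theorem basis_dual {ι : Type*} [Fintype ι] (b : Module.Basis ι R B) (x : D R B) :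
    x = ∑ i, x (b i) • (WithConv.toConv (b.coord i) : D R B) := by
  classical
  apply (toDual R B).injective
  apply b.ext
  intro j
  rw [map_sum]
  simp only [map_smul, toDual_apply, LinearMap.coe_sum, Finset.sum_apply, LinearMap.smul_apply,
    WithConv.ofConv_toConv, Module.Basis.coord_apply, Module.Basis.repr_self, Finsupp.single_apply, smul_eq_mul]
  simp [coe_apply]

theorem lin_eq_sum {ι : Type*} [Fintype ι] (b : Module.Basis ι R B) (w : D R B →ₗ[R] S) (x : D R B) :
    w x = ∑ i, algebraMap R S (x (b i)) * w (WithConv.toConv (b.coord i)) := by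
  conv_lhs => rw [basis_dual b x]
  rw [map_sum]
  refine Finset.sum_congr rfl fun i _ => ?_
  rw [map_smul, Algebra.smul_def]

/-- `pr` is additive and `S`-linear in the first variable. -/
theorem pr_add_left (u u' : B →ₗ[R] S) (w : D R B →ₗ[R] S) : pr B (u + u') w = pr B u w + pr B u' w := by
  simp only [pr, LinearMap.add_apply, add_mul, Finset.sum_add_distrib]

theorem pr_smul_left (s : S) (u : B →ₗ[R] S) (w : D R B →ₗ[R] S) : pr B (s • u) w = s * pr B u w := by
  simp only [pr, LinearMap.smul_apply, smul_eq_mul, mul_assoc, Finset.mul_sum]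

theorem pr_sum_left {ι : Type*} (t : Finset ι) (u : ι → B →ₗ[R] S) (w : D R B →ₗ[R] S) :
    pr B (∑ i ∈ t, u i) w = ∑ i ∈ t, pr B (u i) w := by
  simp only [pr, LinearMap.coe_sum, Finset.sum_apply, Finset.sum_mul]
  exact Finset.sum_comm

theorem pr_add_right (u : B →ₗ[R] S) (w w' : D R B →ₗ[R] S) : pr B u (w + w') = pr B u w + pr B u w' := by
  simp only [pr, LinearMap.add_apply, mul_add, Finset.sum_add_distrib]

theorem pr_smul_right (s : S) (u : B →ₗ[R] S) (w : D R B →ₗ[R] S) : pr B u (s • w) = s * pr B u w := by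
  simp only [pr, LinearMap.smul_apply, smul_eq_mul, mul_left_comm, Finset.mul_sum]

theorem pr_sum_right {ι : Type*} (t : Finset ι) (u : B →ₗ[R] S) (w : ι → D R B →ₗ[R] S) :
    pr B u (∑ i ∈ t, w i) = ∑ i ∈ t, pr B u (w i) := by
  simp only [pr, LinearMap.coe_sum, Finset.sum_apply, Finset.mul_sum]
  exact Finset.sum_comm

/-- contraction with a scalar form. -/
theorem pr_io (x : D R B) (w : D R B →ₗ[R] S) : pr B (io S x) w = w x := by
  rw [lin_eq_sum (Module.Free.chooseBasis R B) w x]
  rfl

theorem lin_eq_sum' {ι : Type*} [Fintype ι] (b : Module.Basis ι R B) (u : B →ₗ[R] S) :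
    u = ∑ i, u (b i) • io S (WithConv.toConv (b.coord i) : D R B) := by
  classical
  apply b.ext
  intro j
  simp only [LinearMap.coe_sum, Finset.sum_apply, LinearMap.smul_apply, io_apply, smul_eq_mul, coe_apply,
    WithConv.ofConv_toConv, Module.Basis.coord_apply, Module.Basis.repr_self, Finsupp.single_apply]
  simp

/-- `pr` may be computed in any basis. -/
theorem pr_basis {ι : Type*} [Fintype ι] (b : Module.Basis ι R B) (u : B →ₗ[R] S) (w : D R B →ₗ[R] S) :
    pr B u w = ∑ i, u (b i) * w (WithConv.toConv (b.coord i)) := by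
  conv_lhs => rw [lin_eq_sum' b u]
  rw [pr_sum_left]
  refine Finset.sum_congr rfl fun i _ => ?_
  rw [pr_smul_left, pr_io]

theorem dual_eq_sum {ι : Type*} [Fintype ι] (b : Module.Basis ι R B) (w : D R B →ₗ[R] S) :
    w = ∑ i, w (WithConv.toConv (b.coord i)) • evb S (b i) := by
  apply LinearMap.ext
  intro x
  rw [lin_eq_sum b w x]
  simp only [LinearMap.coe_sum, Finset.sum_apply, LinearMap.smul_apply, evb_apply, smul_eq_mul]
  exact Finset.sum_congr rfl fun i _ => mul_comm _ _

/-- contraction with an evaluation. -/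
theorem pr_evb (u : B →ₗ[R] S) (b : B) : pr B u (evb S b) = u b := by
  have h := (Module.Free.chooseBasis R B).sum_repr b
  conv_rhs => rw [← h]
  rw [map_sum, pr]
  refine Finset.sum_congr rfl fun i _ => ?_
  rw [evb_apply, map_smul, Algebra.smul_def, mul_comm]
  rfl

/-- two families of `S`-valued forms on the dual agreeing on ... : extensionality in the second variable. -/
theorem pr_ext_left {u u' : B →ₗ[R] S} (h : ∀ w : D R B →ₗ[R] S, pr B u w = pr B u' w) : u = u' := by
  apply LinearMap.ext
  intro b
  rw [← pr_evb u b, ← pr_evb u' b, h]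

theorem pr_ext_right {w w' : D R B →ₗ[R] S} (h : ∀ u : B →ₗ[R] S, pr B u w = pr B u w') : w = w' := by
  apply LinearMap.ext
  intro x
  rw [← pr_io x w, ← pr_io x w', h]

/-- the transpose of a linear map. -/
noncomputable def tr {B' : Type u} [AddCommGroup B'] [Module R B'] (f : B' →ₗ[R] B) : D R B →ₗ[R] D R B' :=
  (toDual R B').symm.toLinearMap ∘ₗ f.dualMap ∘ₗ (toDual R B).toLinearMap

/-- naturality. -/
theorem pr_comp {B' : Type u} [AddCommGroup B'] [Module R B'] [Module.Finite R B'] [Module.Free R B']
    (f : B' →ₗ[R] B) (u : B →ₗ[R] S) (w : D R B' →ₗ[R] S) :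
    pr B' (u ∘ₗ f) w = pr B u (w ∘ₗ tr f) := by
  rw [lin_eq_sum' (Module.Free.chooseBasis R B) u]
  have h : ∀ x : D R B, io S x ∘ₗ f = io S (tr f x) := fun x => rfl
  rw [pr_sum_left]
  have h2 : (∑ i, u ((Module.Free.chooseBasis R B) i) •
      io S (WithConv.toConv ((Module.Free.chooseBasis R B).coord i) : D R B)) ∘ₗ f =
      ∑ i, u ((Module.Free.chooseBasis R B) i) •
      (io S (WithConv.toConv ((Module.Free.chooseBasis R B).coord i) : D R B) ∘ₗ f) := by
    apply LinearMap.ext
    intro b
    simp [LinearMap.coe_sum, Finset.sum_apply]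
  rw [h2, pr_sum_left]
  refine Finset.sum_congr rfl fun i _ => ?_
  rw [pr_smul_left, pr_smul_left, pr_io, h, pr_io]
  rfl

/-- postcomposition with an algebra map. -/
theorem pr_map {S' : Type v} [CommRing S'] [Algebra R S'] (σ : S →ₐ[R] S') (u : B →ₗ[R] S) (w : D R B →ₗ[R] S) :
    pr B (σ.toLinearMap ∘ₗ u) (σ.toLinearMap ∘ₗ w) = σ (pr B u w) := by
  simp only [pr, map_sum, map_mul]
  rfl

end Lin

section Hopf

variable {R : Type u} [CommRing R] {B : Type u} [CommRing B] [HopfAlgebra R B] [Coalgebra.IsCocomm R B]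
  [Module.Finite R B] [Module.Free R B] {S : Type v} [CommRing S] [Algebra R S]

theorem io_mul (x x' : D R B) :
    (WithConv.toConv (io S x) * WithConv.toConv (io S x') : WithConv (B →ₗ[R] S)) = WithConv.toConv (io S (x * x')) := by
  have h := LinearMap.algHom_comp_convMul_distrib (Algebra.ofId R S) x x'
  exact (congrArg WithConv.toConv h).symm

theorem io_one : WithConv.toConv (io S (1 : D R B)) = (1 : WithConv (B →ₗ[R] S)) := by
  apply WithConv.ext
  apply LinearMap.ext
  intro b
  change algebraMap R S ((1 : D R B) b) = (1 : WithConv (B →ₗ[R] S)) b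
  rw [LinearMap.convOne_apply, LinearMap.convOne_apply]
  rfl

/-- multiplicativity in the first variable. -/
theorem pr_conv_left (u u' : WithConv (B →ₗ[R] S)) (w : D R B →ₐ[R] S) :
    pr B (u * u').ofConv w.toLinearMap = pr B u.ofConv w.toLinearMap * pr B u'.ofConv w.toLinearMap := by
  set b := Module.Free.chooseBasis R B
  have e1 : u = ∑ i, (u.ofConv (b i)) • WithConv.toConv (io S (WithConv.toConv (b.coord i) : D R B)) := by
    apply WithConv.ofConv_injective
    have := lin_eq_sum' b u.ofConv
    rw [WithConv.ofConv_sum]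
    exact this
  have e2 : u' = ∑ i, (u'.ofConv (b i)) • WithConv.toConv (io S (WithConv.toConv (b.coord i) : D R B)) := by
    apply WithConv.ofConv_injective
    have := lin_eq_sum' b u'.ofConv
    rw [WithConv.ofConv_sum]
    exact this
  have h0 : ∀ (s s' : S) (x x' : D R B), pr B ((s • WithConv.toConv (io S x) : WithConv (B →ₗ[R] S)) *
      (s' • WithConv.toConv (io S x') : WithConv (B →ₗ[R] S))).ofConv w.toLinearMap =
      (s * w x) * (s' * w x') := by
    intro s s' x x'
    rw [smul_mul_assoc, mul_smul_comm, io_mul]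
    change pr B (s • (s' • io S (x * x'))) w.toLinearMap = _
    rw [pr_smul_left, pr_smul_left, pr_io]
    change s * (s' * w (x * x')) = _
    rw [map_mul]
    ring
  have h1 : pr B (u * u').ofConv w.toLinearMap = ∑ i, ∑ j,
      ((u.ofConv (b i)) * w (WithConv.toConv (b.coord i) : D R B)) *
      ((u'.ofConv (b j)) * w (WithConv.toConv (b.coord j) : D R B)) := by
    conv_lhs => rw [e1, e2]
    rw [Finset.sum_mul_sum, WithConv.ofConv_sum, pr_sum_left]
    refine Finset.sum_congr rfl fun i _ => ?_
    rw [WithConv.ofConv_sum, pr_sum_left]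
    exact Finset.sum_congr rfl fun j _ => h0 _ _ _ _
  rw [h1, pr_basis b u.ofConv, pr_basis b u'.ofConv, Finset.sum_mul_sum]
  rfl

theorem pr_one_left (w : D R B →ₐ[R] S) : pr B (1 : WithConv (B →ₗ[R] S)).ofConv w.toLinearMap = 1 := by
  rw [← io_one (R := R) (B := B) (S := S)]
  change pr B (io S 1) w.toLinearMap = 1
  rw [pr_io]
  exact map_one w

theorem evb_mul (a b : B) :
    (WithConv.toConv (evb S a) * WithConv.toConv (evb S b) : WithConv (D R B →ₗ[R] S)) =
      WithConv.toConv (evb S (a * b)) := by
  apply WithConv.ext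
  apply LinearMap.ext
  intro x
  rw [LinearMap.convMul_def]
  change LinearMap.mul' R S (TensorProduct.map (evb S a) (evb S b) (Coalgebra.comul (R := R) x)) =
    algebraMap R S (x (a * b))
  rw [← ev₂_coalgebra_comul_tmul R B x a b]
  generalize Coalgebra.comul (R := R) x = y
  induction y using TensorProduct.induction_on with
  | zero => simp
  | tmul x y => simp [evb_apply]
  | add x y hx hy => simp only [map_add, hx, hy, LinearMap.add_apply]

theorem evb_one : WithConv.toConv (evb S (1 : B)) = (1 : WithConv (D R B →ₗ[R] S)) := by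
  apply WithConv.ext
  apply LinearMap.ext
  intro x
  change algebraMap R S (x 1) = (1 : WithConv (D R B →ₗ[R] S)) x
  rw [LinearMap.convOne_apply]
  rfl

/-- multiplicativity in the second variable, in general form. -/
theorem pr_conv_right_sum {ι : Type*} [Fintype ι] (b : Module.Basis ι R B) (u : B →ₗ[R] S)
    (w w' : WithConv (D R B →ₗ[R] S)) :
    pr B u (w * w').ofConv = ∑ i, ∑ j, (w.ofConv (WithConv.toConv (b.coord i)) *
      w'.ofConv (WithConv.toConv (b.coord j))) * u (b i * b j) := by
  have e1 : w = ∑ i, (w.ofConv (WithConv.toConv (b.coord i))) • WithConv.toConv (evb S (b i)) := by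
    apply WithConv.ofConv_injective
    rw [WithConv.ofConv_sum]
    exact dual_eq_sum b w.ofConv
  have e2 : w' = ∑ i, (w'.ofConv (WithConv.toConv (b.coord i))) • WithConv.toConv (evb S (b i)) := by
    apply WithConv.ofConv_injective
    rw [WithConv.ofConv_sum]
    exact dual_eq_sum b w'.ofConv
  conv_lhs => rw [e1, e2]
  rw [Finset.sum_mul_sum, WithConv.ofConv_sum, pr_sum_right]
  refine Finset.sum_congr rfl fun i _ => ?_
  rw [WithConv.ofConv_sum, pr_sum_right]
  refine Finset.sum_congr rfl fun j _ => ?_
  rw [smul_mul_assoc, mul_smul_comm, evb_mul]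
  change pr B u (_ • (_ • evb S (b i * b j))) = _
  rw [pr_smul_right, pr_smul_right, pr_evb]
  ring

theorem pr_conv_right (u : B →ₐ[R] S) (w w' : WithConv (D R B →ₗ[R] S)) :
    pr B u.toLinearMap (w * w').ofConv = pr B u.toLinearMap w.ofConv * pr B u.toLinearMap w'.ofConv := by
  set b := Module.Free.chooseBasis R B
  rw [pr_conv_right_sum b, pr_basis b _ w.ofConv, pr_basis b _ w'.ofConv, Finset.sum_mul_sum]
  refine Finset.sum_congr rfl fun i _ => Finset.sum_congr rfl fun j _ => ?_
  change _ * u (b i * b j) = _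
  rw [map_mul]
  change _ = (u (b i) * _) * (u (b j) * _)
  ring

theorem pr_one_right (u : B →ₐ[R] S) : pr B u.toLinearMap (1 : WithConv (D R B →ₗ[R] S)).ofConv = 1 := by
  rw [← evb_one (R := R) (B := B) (S := S)]
  change pr B u.toLinearMap (evb S 1) = 1
  rw [pr_evb]
  exact map_one u

/-- multiplicativity for points on the left. -/
theorem pr_mul_left (x x' : WithConv (B →ₐ[R] S)) (y : WithConv (D R B →ₐ[R] S)) :
    pr B (x * x').ofConv.toLinearMap y.ofConv.toLinearMap =
      pr B x.ofConv.toLinearMap y.ofConv.toLinearMap * pr B x'.ofConv.toLinearMap y.ofConv.toLinearMap := by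
  have h := pr_conv_left (WithConv.toConv x.ofConv.toLinearMap) (WithConv.toConv x'.ofConv.toLinearMap) y.ofConv
  rw [← AlgHom.toLinearMap_convMul] at h
  exact h

theorem pr_mul_right (x : WithConv (B →ₐ[R] S)) (y y' : WithConv (D R B →ₐ[R] S)) :
    pr B x.ofConv.toLinearMap (y * y').ofConv.toLinearMap =
      pr B x.ofConv.toLinearMap y.ofConv.toLinearMap * pr B x.ofConv.toLinearMap y'.ofConv.toLinearMap := by
  have h := pr_conv_right x.ofConv (WithConv.toConv y.ofConv.toLinearMap) (WithConv.toConv y'.ofConv.toLinearMap)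
  rw [← AlgHom.toLinearMap_convMul] at h
  exact h

/-- the pairing of points with characters as a homomorphism in the second variable. -/
noncomputable def prHom (x : WithConv (B →ₐ[R] S)) : WithConv (D R B →ₐ[R] S) →* S where
  toFun y := pr B x.ofConv.toLinearMap y.ofConv.toLinearMap
  map_one' := pr_one_right x.ofConv
  map_mul' y y' := pr_mul_right x y y'

theorem prHom_apply (x : WithConv (B →ₐ[R] S)) (y : WithConv (D R B →ₐ[R] S)) :
    prHom x y = pr B x.ofConv.toLinearMap y.ofConv.toLinearMap := rfl

/-- the pairing as a homomorphism in the first variable. -/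
noncomputable def prHom' (y : WithConv (D R B →ₐ[R] S)) : WithConv (B →ₐ[R] S) →* S where
  toFun x := pr B x.ofConv.toLinearMap y.ofConv.toLinearMap
  map_one' := pr_one_left y.ofConv
  map_mul' x x' := pr_mul_left x x' y

theorem pr_pc {B' : Type u} [CommRing B'] [HopfAlgebra R B'] [Coalgebra.IsCocomm R B']
    [Module.Finite R B'] [Module.Free R B'] (f : B' →ₐc[R] B) (x : WithConv (B →ₐ[R] S))
    (y : WithConv (D R B' →ₐ[R] S)) :
    pr B' (pc f S x).ofConv.toLinearMap y.ofConv.toLinearMap =
      pr B x.ofConv.toLinearMap (pc (transpose R f) S y).ofConv.toLinearMap :=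
  pr_comp (f : B' →ₐ[R] B).toLinearMap x.ofConv.toLinearMap y.ofConv.toLinearMap

/-- derivations modulo an ideal generated by `q` are additive on characters modulo `q`. -/
theorem pr_der (q : R) (t : B →ₗ[R] R)
    (ht : ∀ a b : B, q ∣ t (a * b) - (Coalgebra.counit (R := R) a * t b + Coalgebra.counit (R := R) b * t a))
    (y y' : WithConv (D R B →ₐ[R] S)) :
    algebraMap R S q ∣ pr B ((Algebra.linearMap R S) ∘ₗ t) (y * y').ofConv.toLinearMap -
      (pr B ((Algebra.linearMap R S) ∘ₗ t) y.ofConv.toLinearMap +
        pr B ((Algebra.linearMap R S) ∘ₗ t) y'.ofConv.toLinearMap) := by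
  set b := Module.Free.chooseBasis R B
  have h0 := pr_conv_right_sum b ((Algebra.linearMap R S) ∘ₗ t) (WithConv.toConv y.ofConv.toLinearMap)
    (WithConv.toConv y'.ofConv.toLinearMap)
  rw [← AlgHom.toLinearMap_convMul] at h0
  have hy : ∑ i, algebraMap R S (Coalgebra.counit (R := R) (b i)) * y.ofConv (WithConv.toConv (b.coord i)) = 1 := by
    have := pr_one_left (R := R) (B := B) y.ofConv
    rw [pr_basis b] at this
    exact this
  have hy' : ∑ i, algebraMap R S (Coalgebra.counit (R := R) (b i)) * y'.ofConv (WithConv.toConv (b.coord i)) = 1 := by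
    have := pr_one_left (R := R) (B := B) y'.ofConv
    rw [pr_basis b] at this
    exact this
  have e1 : pr B ((Algebra.linearMap R S) ∘ₗ t) y.ofConv.toLinearMap =
      ∑ i, ∑ j, (y.ofConv (WithConv.toConv (b.coord i)) * y'.ofConv (WithConv.toConv (b.coord j))) *
        algebraMap R S (Coalgebra.counit (R := R) (b j) * t (b i)) := by
    rw [pr_basis b, ← mul_one (∑ i, _), ← hy', Finset.sum_mul_sum]
    refine Finset.sum_congr rfl fun i _ => Finset.sum_congr rfl fun j _ => ?_
    rw [map_mul]
    change (algebraMap R S (t (b i)) * y.ofConv (WithConv.toConv (b.coord i))) * _ = _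
    ring
  have e2 : pr B ((Algebra.linearMap R S) ∘ₗ t) y'.ofConv.toLinearMap =
      ∑ i, ∑ j, (y.ofConv (WithConv.toConv (b.coord i)) * y'.ofConv (WithConv.toConv (b.coord j))) *
        algebraMap R S (Coalgebra.counit (R := R) (b i) * t (b j)) := by
    rw [pr_basis b, ← one_mul (∑ i, _), ← hy, Finset.sum_mul_sum]
    refine Finset.sum_congr rfl fun i _ => Finset.sum_congr rfl fun j _ => ?_
    rw [map_mul]
    change _ * (algebraMap R S (t (b j)) * y'.ofConv (WithConv.toConv (b.coord j))) = _
    ring
  have e0 : pr B ((Algebra.linearMap R S) ∘ₗ t) (y * y').ofConv.toLinearMap =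
      ∑ i, ∑ j, (y.ofConv (WithConv.toConv (b.coord i)) * y'.ofConv (WithConv.toConv (b.coord j))) *
        algebraMap R S (t (b i * b j)) := h0
  rw [e0, e1, e2, ← Finset.sum_add_distrib, ← Finset.sum_sub_distrib]
  refine Finset.dvd_sum fun i _ => ?_
  rw [← Finset.sum_add_distrib, ← Finset.sum_sub_distrib]
  refine Finset.dvd_sum fun j _ => ?_
  have h := map_dvd (algebraMap R S) (ht (b i) (b j))
  rw [map_sub, map_add] at h
  have : (y.ofConv (WithConv.toConv (b.coord i)) * y'.ofConv (WithConv.toConv (b.coord j))) *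
        algebraMap R S (t (b i * b j)) - ((y.ofConv (WithConv.toConv (b.coord i)) *
          y'.ofConv (WithConv.toConv (b.coord j))) * algebraMap R S (Coalgebra.counit (R := R) (b j) * t (b i)) +
      (y.ofConv (WithConv.toConv (b.coord i)) * y'.ofConv (WithConv.toConv (b.coord j))) *
        algebraMap R S (Coalgebra.counit (R := R) (b i) * t (b j))) =
      (y.ofConv (WithConv.toConv (b.coord i)) * y'.ofConv (WithConv.toConv (b.coord j))) *
      (algebraMap R S (t (b i * b j)) - (algebraMap R S (Coalgebra.counit (R := R) (b i) * t (b j)) +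
        algebraMap R S (Coalgebra.counit (R := R) (b j) * t (b i)))) := by ring
  rw [this]
  exact Dvd.dvd.mul_left h _

/-- the dual of a finite free module is free. -/
instance instFreeD {R : Type u} [CommRing R] {B : Type u} [AddCommGroup B] [Module R B] [Module.Finite R B]
    [Module.Free R B] : Module.Free R (D R B) := Module.Free.of_equiv (toDual R B).symm

theorem finrank_D (R : Type u) [CommRing R] [StrongRankCondition R] (B : Type u) [AddCommGroup B] [Module R B]
    [Module.Finite R B] [Module.Free R B] : Module.finrank R (D R B) = Module.finrank R B := by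
  rw [(toDual R B).finrank_eq]
  exact Module.finrank_linearMap_self R R B

/-- the double dual: contraction on the dual side. -/
theorem pr_dual (s : D R B →ₗ[R] S) (w : D R (D R B) →ₗ[R] S) :
    pr (D R B) s w = pr B (w ∘ₗ evalLin R B) s := by
  rw [dual_eq_sum (Module.Free.chooseBasis R B) s, pr_sum_right, pr_sum_left]
  refine Finset.sum_congr rfl fun i _ => ?_
  rw [pr_smul_right, pr_smul_left, pr_evb]
  have : evb S ((Module.Free.chooseBasis R B) i) = io S (evalLin R B ((Module.Free.chooseBasis R B) i)) := rfl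
  rw [this, pr_io]
  rfl

end Hopf

end K564.Tate
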