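import Groth.Prelude.Def_CartDual2
import Mathlib.RingTheory.HopfAlgebra.Convolution
import Mathlib.RingTheory.DiscreteValuationRing.Basic
import Mathlib.RingTheory.Trace.Basic
import Mathlib.LinearAlgebra.FreeModule.PID
import Mathlib.RingTheory.IntegralClosure.IsIntegralClosure.Basic
import Mathlib.FieldTheory.IsAlgClosed.Basic

/-!
# Barsotti-Tate systems of finite free Hopf algebras (definitions)

`Sys R p h` : the coordinate rings `B n` of the layers `G_n` of a `p`-divisible group of height `h` over `R`,
`res n : B (n+1) → B n` the comorphism of `G_n ⊂ G_(n+1)`, `inf n : B n → B (n+1)` the comorphism of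
`p : G_(n+1) → G_n`.
-/

set_option autoImplicit false
universe u v

open TensorProduct CartDual

namespace K564.Tate

section Hopf

variable {R : Type u} [CommRing R]

/-- the group of points of a commutative Hopf algebra. -/
noncomputable instance (priority := low) ptGroup {B : Type u} [CommRing B] [HopfAlgebra R B]
    [Coalgebra.IsCocomm R B] {S : Type v} [CommRing S] [Algebra R S] : CommGroup (WithConv (B →ₐ[R] S)) where
  inv f := WithConv.toConv (f.ofConv.comp (HopfAlgebra.antipodeAlgHom R B))
  inv_mul_cancel f := by
    apply WithConv.ofConv_injective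
    apply AlgHom.toLinearMap_injective
    apply LinearMap.ext
    intro b
    have h : LinearMap.mul' R S ∘ₗ TensorProduct.map
        (f.ofConv.comp (HopfAlgebra.antipodeAlgHom R B)).toLinearMap f.ofConv.toLinearMap =
        f.ofConv.toLinearMap ∘ₗ LinearMap.mul' R B ∘ₗ (HopfAlgebra.antipode R (A := B)).rTensor B := by
      apply TensorProduct.ext'
      intro a a'
      simp
    have h2 := HopfAlgebra.mul_antipode_rTensor_comul_apply (R := R) b
    have h3 := congrArg (fun g => g (Coalgebra.comul (R := R) b)) h
    change LinearMap.mul' R S (TensorProduct.map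
        (f.ofConv.comp (HopfAlgebra.antipodeAlgHom R B)).toLinearMap f.ofConv.toLinearMap
        (Coalgebra.comul (R := R) b)) = algebraMap R S (Coalgebra.counit b)
    refine h3.trans ?_
    change f.ofConv (LinearMap.mul' R B _) = _
    rw [h2]
    simp

/-- precomposition with a bialgebra map, on groups of points. -/
noncomputable def pc {B B' : Type u} [CommRing B] [HopfAlgebra R B] [CommRing B'] [HopfAlgebra R B']
    [Coalgebra.IsCocomm R B] [Coalgebra.IsCocomm R B'] (f : B' →ₐc[R] B) (S : Type v) [CommRing S] [Algebra R S] :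
    WithConv (B →ₐ[R] S) →* WithConv (B' →ₐ[R] S) where
  toFun x := WithConv.toConv (x.ofConv.comp (f : B' →ₐ[R] B))
  map_one' := by
    apply WithConv.ext
    apply AlgHom.ext
    intro b
    change algebraMap R S (Coalgebra.counit (f b)) = algebraMap R S (Coalgebra.counit b)
    rw [CoalgHomClass.counit_comp_apply]
  map_mul' x y := by
    have h := AlgHom.convMul_comp_bialgHom_distrib (R := R) x y f
    exact congrArg WithConv.toConv h

theorem pc_apply {B B' : Type u} [CommRing B] [HopfAlgebra R B] [CommRing B'] [HopfAlgebra R B']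
    [Coalgebra.IsCocomm R B] [Coalgebra.IsCocomm R B'] (f : B' →ₐc[R] B) (S : Type v) [CommRing S] [Algebra R S]
    (x : WithConv (B →ₐ[R] S)) (b : B') : (pc f S x).ofConv b = x.ofConv (f b) := rfl

/-- postcomposition with an algebra map, on groups of points. -/
noncomputable def qc (B : Type u) [CommRing B] [HopfAlgebra R B] [Coalgebra.IsCocomm R B]
    {S T : Type v} [CommRing S] [Algebra R S] [CommRing T] [Algebra R T] (σ : S →ₐ[R] T) :
    WithConv (B →ₐ[R] S) →* WithConv (B →ₐ[R] T) where
  toFun x := WithConv.toConv (σ.comp x.ofConv)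
  map_one' := by
    apply WithConv.ext
    apply AlgHom.ext
    intro b
    change σ (algebraMap R S (Coalgebra.counit b)) = algebraMap R T (Coalgebra.counit b)
    rw [AlgHom.commutes]
  map_mul' x y := by
    have h := AlgHom.comp_convMul_distrib (R := R) σ x y
    exact congrArg WithConv.toConv h

theorem qc_apply (B : Type u) [CommRing B] [HopfAlgebra R B] [Coalgebra.IsCocomm R B]
    {S T : Type v} [CommRing S] [Algebra R S] [CommRing T] [Algebra R T] (σ : S →ₐ[R] T)
    (x : WithConv (B →ₐ[R] S)) (b : B) : (qc B σ x).ofConv b = σ (x.ofConv b) := rfl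

/-- the contraction pairing between `Hom_R(B, S)` and `Hom_R(D B, S)`: `Σ u(b_i) w(b_i^*)`. -/
noncomputable def pr (B : Type u) [AddCommGroup B] [Module R B] [Module.Finite R B] [Module.Free R B]
    {S : Type v} [CommRing S] [Algebra R S] (u : B →ₗ[R] S) (w : D R B →ₗ[R] S) : S :=
  ∑ i, u (Module.Free.chooseBasis R B i) * w (WithConv.toConv ((Module.Free.chooseBasis R B).coord i))

/-- the trace ideal of a finite free algebra. -/
noncomputable def trI (R B : Type u) [CommRing R] [CommRing B] [Algebra R B] : Ideal R :=
  LinearMap.range (Algebra.trace R B)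

end Hopf

/-- A Barsotti-Tate system of finite free commutative cocommutative Hopf algebras of height `h`. -/
structure Sys (R : Type u) [CommRing R] (p h : ℕ) where
  B : ℕ → Type u
  [ring : ∀ n, CommRing (B n)]
  [hopf : ∀ n, HopfAlgebra R (B n)]
  [cocomm : ∀ n, Coalgebra.IsCocomm R (B n)]
  [fin : ∀ n, Module.Finite R (B n)]
  [free : ∀ n, Module.Free R (B n)]
  rank : ∀ n, Module.finrank R (B n) = p ^ (n * h)
  res : ∀ n, B (n + 1) →ₐc[R] B n
  inf : ∀ n, B n →ₐc[R] B (n + 1)
  res_surj : ∀ n, Function.Surjective (res n)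
  inf_inj : ∀ n, Function.Injective (inf n)
  inf_sat : ∀ n (r : R) (b : B (n + 1)), r ≠ 0 → (∃ a, inf n a = r • b) → ∃ a, inf n a = b
  res_inf : ∀ n, (res n).comp (inf n) = ((WithConv.toConv (BialgHom.id R (B n))) ^ p).ofConv
  inf_res : ∀ n, (inf n).comp (res n) = ((WithConv.toConv (BialgHom.id R (B (n + 1)))) ^ p).ofConv

attribute [instance] Sys.ring Sys.hopf Sys.cocomm Sys.fin Sys.free

namespace Sys

variable {R : Type u} [CommRing R] {p h : ℕ} (Φ : Sys R p h)

/-- the Tate module of the system with values in `S`: compatible points for `p : G_(n+1) → G_n`. -/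
def T (S : Type u) [CommRing S] [Algebra R S] : Subgroup (∀ n, WithConv (Φ.B n →ₐ[R] S)) where
  carrier := {x | ∀ n, pc (Φ.inf n) S (x (n + 1)) = x n}
  mul_mem' {x y} hx hy n := by
    have h1 := hx n
    have h2 := hy n
    simp only [Pi.mul_apply, map_mul, h1, h2]
  one_mem' n := by simp
  inv_mem' {x} hx n := by
    have h1 := hx n
    simp only [Pi.inv_apply, map_inv, h1]

/-- the characters of the system with values in `S` (Tate module of the dual). -/
def Y (S : Type u) [CommRing S] [Algebra R S] : Subgroup (∀ n, WithConv (D R (Φ.B n) →ₐ[R] S)) where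
  carrier := {y | ∀ n, pc (transpose R (Φ.res n)) S (y (n + 1)) = y n}
  mul_mem' {x y} hx hy n := by
    have h1 := hx n
    have h2 := hy n
    simp only [Pi.mul_apply, map_mul, h1, h2]
  one_mem' n := by simp
  inv_mem' {x} hx n := by
    have h1 := hx n
    simp only [Pi.inv_apply, map_inv, h1]

/-- elements of the Lie algebra of the system: `t n : B n → R` is modulo `p^n` a point derivation at the unit,
compatible with restriction. -/
structure IsLie (t : ∀ n, Φ.B n →ₗ[R] R) : Prop where
  der : ∀ n (a b : Φ.B n), (p : R) ^ n ∣ t n (a * b) -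
    (Coalgebra.counit (R := R) a * t n b + Coalgebra.counit (R := R) b * t n a)
  compat : ∀ n (b : Φ.B (n + 1)), (p : R) ^ n ∣ t (n + 1) b - t n (Φ.res n b)

/-- an `R`-linear form as a linear map with values in an `R`-algebra. -/
noncomputable def toS {B : Type u} [AddCommGroup B] [Module R B] (S : Type u) [CommRing S] [Algebra R S]
    (t : B →ₗ[R] R) : B →ₗ[R] S := (Algebra.linearMap R S) ∘ₗ t

/-- the value of a family of linear forms at a character. -/
noncomputable def ev {S : Type u} [CommRing S] [Algebra R S] (t : ∀ n, Φ.B n →ₗ[R] R) (n : ℕ)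
    (y : WithConv (D R (Φ.B n) →ₐ[R] S)) : S :=
  pr (Φ.B n) (toS S (t n)) y.ofConv.toLinearMap

end Sys

end K564.Tate
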