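import Groth.Agent.SGA7.K411.BTbc

/-!
# The data of the row S12319 and their base change
-/

set_option autoImplicit false
universe u
open CategoryTheory CategoryTheory.Limits MonoidalCategory CartesianMonoidalCategory AlgebraicGeometry MonObj

namespace K564.Tate

/-- the data of the row S12319, over a morphism `b : T ⟶ S` of base schemes: the `l`-divisible group of `A` over `T`
extends over `S`. -/
structure Row {S T : Scheme.{u}} (b : T ⟶ S) (A : Over T) [GrpObj A] [IsCommMonObj A] (l h : ℕ) where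
  P : ℕ → Over T
  [grp : ∀ ν, GrpObj (P ν)]
  i : ∀ ν, P ν ⟶ A
  t : ∀ ν, P (ν + 1) ⟶ P ν
  hP : BTGrp.IsTatePro A l P i t
  G : BTGrp.ProBT l S h
  e : ∀ ν, Red.bc b (G.G ν) ≅ P ν
  he : ∀ ν, IsMonHom (e ν).hom
  het : ∀ ν, (Over.pullback b).map (G.proj ν) ≫ (e ν).hom = (e (ν + 1)).hom ≫ t ν
  hei : ∀ ν, (Over.pullback b).map (G.incl ν) ≫ (e (ν + 1)).hom ≫ i (ν + 1) = (e ν).hom ≫ i ν

attribute [instance] Row.grp

section gen

variable {S₀ S₁ S₂ S₃ : Scheme.{u}} {a : S₁ ⟶ S₀} {b : S₂ ⟶ S₀} {c : S₃ ⟶ S₁} {d : S₃ ⟶ S₂} (w : c ≫ a = d ≫ b)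

theorem sq_nat {G H : Over S₀} {P Q : Over S₂} (eG : Red.bc b G ≅ P) (eH : Red.bc b H ≅ Q) (f : G ⟶ H) (t : P ⟶ Q)
    (h : (Over.pullback b).map f ≫ eH.hom = eG.hom ≫ t) :
    (Over.pullback c).map ((Over.pullback a).map f) ≫ ((K411.BT.sqI w H).hom ≫ (Over.pullback d).map eH.hom) =
      ((K411.BT.sqI w G).hom ≫ (Over.pullback d).map eG.hom) ≫ (Over.pullback d).map t := by
  have h1 := K411.BT.sqI_naturality w f
  have h2 : (Over.pullback d).map ((Over.pullback b).map f) ≫ (Over.pullback d).map eH.hom =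
      (Over.pullback d).map eG.hom ≫ (Over.pullback d).map t := by
    rw [← CategoryTheory.Functor.map_comp, ← CategoryTheory.Functor.map_comp, h]
  rw [Category.assoc, ← h2, ← Category.assoc, h1, Category.assoc]

theorem sq_nat' {G H : Over S₀} {P Q A : Over S₂} (eG : Red.bc b G ≅ P) (eH : Red.bc b H ≅ Q) (f : G ⟶ H)
    (iP : P ⟶ A) (iQ : Q ⟶ A) (h : (Over.pullback b).map f ≫ eH.hom ≫ iQ = eG.hom ≫ iP) :
    (Over.pullback c).map ((Over.pullback a).map f) ≫ ((K411.BT.sqI w H).hom ≫ (Over.pullback d).map eH.hom) ≫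
        (Over.pullback d).map iQ =
      ((K411.BT.sqI w G).hom ≫ (Over.pullback d).map eG.hom) ≫ (Over.pullback d).map iP := by
  have h1 := K411.BT.sqI_naturality w f
  have h2 : (Over.pullback d).map ((Over.pullback b).map f) ≫ (Over.pullback d).map eH.hom ≫ (Over.pullback d).map iQ =
      (Over.pullback d).map eG.hom ≫ (Over.pullback d).map iP := by
    rw [← CategoryTheory.Functor.map_comp, ← CategoryTheory.Functor.map_comp, ← CategoryTheory.Functor.map_comp, h]
  rw [Category.assoc, Category.assoc, ← h2, ← Category.assoc, h1, Category.assoc]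

theorem isMonHom_sq {G : Over S₀} [GrpObj G] {P : Over S₂} [GrpObj P] (eG : Red.bc b G ≅ P) [IsMonHom eG.hom] :
    IsMonHom ((K411.BT.sqI w G) ≪≫ (Over.pullback d).mapIso eG).hom := by
  have h1 := K411.BT.isMonHom_sqI w G
  let e2 : Red.bc d (Red.bc b G) ⟶ Red.bc d P := (Over.pullback d).map eG.hom
  have h3 : IsMonHom e2 := inferInstance
  exact inferInstanceAs (IsMonHom ((K411.BT.sqI w G).hom ≫ e2))

variable {A : Over S₂} [GrpObj A] [IsCommMonObj A] {l h : ℕ}

/-- base change of the data of the row S12319. -/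
noncomputable def Row.bc (D : Row b A l h) : Row c (Red.bc d A) l h where
  P ν := Red.bc d (D.P ν)
  grp ν := Red.grpObj_bc _ _
  i ν := (Over.pullback d).map (D.i ν)
  t ν := (Over.pullback d).map (D.t ν)
  hP := K411.BT.isTatePro_bc _ D.hP
  G := K411.BT.bcBT a D.G
  e ν := K411.BT.sqI w (D.G.G ν) ≪≫ (Over.pullback d).mapIso (D.e ν)
  he ν := by
    have := D.he ν
    exact isMonHom_sq w (D.e ν)
  het ν := sq_nat w (D.e (ν + 1)) (D.e ν) (D.G.proj ν) (D.t ν) (D.het ν)
  hei ν := sq_nat' w (D.e ν) (D.e (ν + 1)) (D.G.incl ν) (D.i ν) (D.i (ν + 1)) (D.hei ν)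

end gen

end K564.Tate
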